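import Cfsg.Agent.TAB.J4.Tab

/-!
# What VAN, ODD, GAL and KZ need from the table of `J4` (helper55, TAB)
-/

set_option autoImplicit false
set_option maxHeartbeats 400000
set_option maxRecDepth 100000

namespace Cfsg.Agent.TAB.J4

open Cfsg Subgroup Cfsg.Agent.TAB.Eng Cfsg.Agent.TAB.Use Cfsg.Agent.Characters Cfsg.Agent.ODD.Red
open Cfsg.Agent.H859
open Cfsg.Agent.H865.RhoEleven (SL)
open Cfsg.Agent.SporadicStructure.M11InvCore (W)

/-- the elements of order 33 are real -/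
theorem real33 : IsConj (R 36) (R 36 ^ 32) := by
  let w : GL (Fin 2) (ZMod 3) := Matrix.GeneralLinearGroup.mkOfDetNeZero W (by decide +kernel)
  have h1 : NU.hom w = NU.B := by
    have h := NU.gm_W (M := 1) (by simp)
    rwa [mul_one, NU.gm_one, mul_one] at h
  have h2 : hs sI * NU.B * hs sT = hs (sT ^ 32) * (hs sI * NU.B) := by
    rw [← h1]
    simp only [hs, MonoidHom.comp_apply, ← map_mul]
    exact congrArg _ (Units.ext (by decide +kernel))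
  have h3 : hs sI * NU.B * NU.c = NU.c ^ 10 * (hs sI * NU.B) := by
    have h := NU.B_c
    rw [pow_zero, pow_zero, one_mul, one_mul, mul_inv_eq_iff_eq_mul] at h
    rw [mul_assoc, h, ← mul_assoc, ((hs_c sI).pow_right 10).eq, mul_assoc]
  rw [R_36, pow_chs]
  exact isConj_iff.2 ⟨hs sI * NU.B, by rw [mul_inv_eq_iff_eq_mul, ← mul_assoc, h3, mul_assoc, h2, ← mul_assoc]⟩

theorem pow_R {t a b : ℕ} (h : t < 44 ∧ a ≡ b [MOD tO t]) : R t ^ a = R t ^ b :=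
  pow_eq_pow_iff_modEq.2 ((rp h.1).ord ▸ h.2)

theorem sq_R {t : ℕ} (ht : t ∈ [11, 27, 35, 36, 37]) : IsConj (R t) (R t ^ 2) := by
  have key : ∀ t ∈ [11, 27, 35, 36, 37], t < 44 ∧ Nat.Coprime (tO t) 2 ∧ ∀ s < 44, tO s = tO t → s = t := by
    decide +kernel
  obtain ⟨h1, h2, h3⟩ := key t ht
  have h4 : orderOf (R t ^ 2) = tO t :=
    (Nat.Coprime.orderOf_pow (y := R t) (by rwa [(rp h1).ord])).trans (rp h1).ord
  obtain ⟨s, hs⟩ := ex_is (R t ^ 2)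
  obtain rfl := h3 s hs.lt (hs.ord.symm.trans h4)
  obtain ⟨k, h5, h6⟩ := hs
  have h7 : k ∈ tK s := (cL_ok _ h5).2.1
  by_cases hk : k = 1
  · rwa [hk, pow_one] at h6
  exfalso
  have h8 : ∀ {m : ℕ}, (s < 44 ∧ k ≡ 2 * m [MOD tO s]) → IsConj ((R s ^ 2) ^ 1) ((R s ^ 2) ^ m) := fun h => by
    rw [pow_one, ← pow_mul, ← pow_R h]
    exact h6.symm
  have h9 : (s = 11 ∧ k = 6) ∨ (s = 27 ∧ k = 13) ∨ (s = 35 ∧ k = 3) ∨ (s = 35 ∧ k = 9) ∨ (s = 36 ∧ k = 10) ∨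
      (s = 37 ∧ k = 6) := (by decide +kernel : ∀ s ∈ [11, 27, 35, 36, 37], ∀ k ∈ tK s, k ≠ 1 → (s = 11 ∧ k = 6) ∨
        (s = 27 ∧ k = 13) ∨ (s = 35 ∧ k = 3) ∨ (s = 35 ∧ k = 9) ∨ (s = 36 ∧ k = 10) ∨ (s = 37 ∧ k = 6)) s ht k h7 hk
  rcases h9 with ⟨rfl, rfl⟩ | ⟨rfl, rfl⟩ | ⟨rfl, rfl⟩ | ⟨rfl, rfl⟩ | ⟨rfl, rfl⟩ | ⟨rfl, rfl⟩
  · exact nc7 1 h4 (by decide) (h8 (m := 3) (by decide))
  · exact nc7 3 h4 (by decide) (h8 (m := 17) (by decide))
  · exact (List.pairwise_cons.1 (ncp (p := 31) (c := 17) h4 BigNum.data31 (by norm_num) (by decide) (by decide))).1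
      17 (by simp) (h8 (by decide))
  · exact (List.pairwise_cons.1 (ncp (p := 31) (c := 20) h4 BigNum.data31 (by norm_num) (by decide) (by decide))).1
      20 (by simp) (h8 (by decide))
  · have k1 : IsConj (R 36) (R 36 ^ 5) := by
      have h := isConj_pow h6 17
      rw [← pow_mul, ← pow_mul, pow_R (b := 5) (by decide), pow_R (a := 2 * 17) (b := 1) (by decide), pow_one] at h
      exact h.symm
    have k2 : ∀ {a b : ℕ}, IsConj (R 36) (R 36 ^ a) → IsConj (R 36) (R 36 ^ b) → IsConj (R 36) (R 36 ^ (a * b)) :=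
      fun {a b} ha hb => hb.trans (pow_mul (R 36) a b ▸ isConj_pow ha b)
    have k3 := k2 real33 (k2 k1 (k2 (k2 k1 k1) (k2 k1 k1)))
    rw [pow_R (b := 10) (by decide), R_36] at k3
    exact nc33 (by rwa [pow_one])
  · exact nc7 5 h4 (by decide) (h8 (m := 3) (by decide))

theorem sq31 {g : Spor.J4} (h : orderOf g = 31) : IsConj g (g ^ 2) := by
  obtain ⟨s, hs⟩ := ex_is g
  obtain rfl := (by decide +kernel : ∀ s < 44, tO s = 31 → s = 35) s hs.lt (hs.ord.symm.trans h)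
  obtain ⟨k, -, h1⟩ := hs
  refine h1.symm.trans (IsConj.trans ?_ (isConj_pow h1 2))
  rw [← pow_mul, mul_comm, pow_mul]
  exact isConj_pow (sq_R (by simp)) k

/-- the three characters of degree `2001151845` -/
theorem fix_three {χ : Spor.J4 → ℂ} (hχ : IsIrrCharacter Spor.J4 χ) (hd : χ 1 = (2001151845 : ℕ)) {σ : ℂ ≃+* ℂ} {k : ℕ}
    (h1 : ∀ z : ℂ, z ^ 31 = 1 → σ z = z ^ k) (h2 : ∀ g : Spor.J4, orderOf g = 31 → IsConj g (g ^ k)) : Fix σ χ := by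
  intro g
  have key : ∀ t < 44, (∃ q ∈ [(3, 3), (5, 1), (7, 1), (11, 3), (37, 1), (43, 1)], q.1 ∣ tO t) ∨ tO t = 31 ∨
      (tK t = [1] ∧ ∀ s < 44, tO s = tO t → tC s = tC t → s = t) := by decide +kernel
  have hq : ∀ q ∈ [(3, 3), (5, 1), (7, 1), (11, 3), (37, 1), (43, 1)], Nat.Prime q.1 ∧ q.1 ^ q.2 ∣ D.N ∧
      ¬ q.1 ^ (q.2 + 1) ∣ D.N ∧ q.1 ^ q.2 ∣ 2001151845 := by decide +kernel
  have hN : Nat.card Spor.J4 = D.N := card_J4
  obtain ⟨t, ht⟩ := ex_is g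
  rcases key t ht.lt with ⟨q, h3, h4⟩ | h3 | ⟨h3, h4⟩
  · obtain ⟨k1, k2, k3, k4⟩ := hq q h3
    rw [zero_of_dz hχ hd k1 (hN ▸ k2) (hN ▸ k3) k4 (ht.ord ▸ h4), map_zero]
  · have h5 := ht.ord.trans h3
    exact (GaloisBasic.map_apply (σ : ℂ →+* ℂ) h1 (Core.isIrr_isCharacter hχ) (by norm_num)
      (h5 ▸ pow_orderOf_eq_one g)).trans (GaloisIrr.isConj_iff_forall_irr.1 (h2 g h5) χ hχ).symm
  · obtain ⟨m, h5, h6⟩ := GaloisBasic.exists_pow_of_ringEquiv (G := Spor.J4) σ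
    have h7 : Nat.Coprime m (orderOf g) := h5.coprime_dvd_right (orderOf_dvd_natCard g)
    obtain ⟨s, hs⟩ := ex_is (g ^ m)
    obtain rfl := h4 s hs.lt (hs.ord.symm.trans (h7.symm.orderOf_pow.trans ht.ord))
      (hs.cen.symm.trans ((cc_pow h7).trans ht.cen))
    rw [h6 χ (Core.isIrr_isCharacter hχ)]
    exact GaloisIrr.isConj_iff_forall_irr.1 ((hs.one h3).symm.trans (ht.one h3)) χ hχ

theorem fix_odd {T : TD Spor.J4 D} (h : Tab T RR) {σ : ℂ ≃+* ℂ} (hL : ∀ t ∈ [11, 27, 36, 37], Good T σ t) {k : ℕ}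
    (h1 : ∀ z : ℂ, z ^ 31 = 1 → σ z = z ^ k) (h2 : ∀ g : Spor.J4, orderOf g = 31 → IsConj g (g ^ k))
    {ψ : Spor.J4 → ℂ} (hψ : IsIrrCharacter Spor.J4 ψ) (ho : Odd (charDegree ψ)) : Fix σ ψ := by
  obtain ⟨χ, hE, hR⟩ := h
  obtain ⟨j, hj, rfl⟩ := hE.all ψ hψ
  have hc : ∀ j < RR.n, RR.d j % 2 = 0 ∨ fixB RR [11, 27, 36, 37] j = true ∨ RR.d j = 2001151845 := by decide +kernel
  rw [hE.charDegree_eq hj, Nat.odd_iff] at ho
  rcases hc j hj with h3 | h3 | h3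
  · omega
  · exact fix_of_chk hE hR hL hj h3
  · exact fix_three hψ (h3 ▸ hE.deg j hj) h1 h2

theorem van : VAN.Van3 Spor.J4 := by
  obtain ⟨T, hm, -, h⟩ := tab
  exact h.van3 (inh_of_mass hm (by decide +kernel)) hm.1 [(2, 21), (31, 1), (37, 1)] (by decide +kernel) 1 35 38
    (by decide +kernel)

theorem odd : OddRat Spor.J4 := by
  obtain ⟨T, hm, -, h⟩ := tab
  exact fun ψ hψ ho τ hτ => fix_odd h (good_two (inh_of_mass hm (by decide +kernel)) rfl hτ) (k := 1)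
    (fun z hz => (hτ 31 z (by decide) hz).trans (pow_one z).symm) (fun g _ => by rw [pow_one]) hψ ho

theorem sig : OddSig Spor.J4 := by
  obtain ⟨T, -, hT, h⟩ := tab
  refine fun ψ hψ ho σ hσ => fix_odd h (fun t ht => SigConj.good ?_ hσ) (fun z hz => hσ.2 31 z (by decide) hz)
    (fun _ => sq31) hψ ho
  obtain ⟨h1, h2, h3⟩ := (by decide +kernel : ∀ t ∈ [11, 27, 36, 37], t < 44 ∧ t ∈ [11, 27, 35, 36, 37] ∧
    expB D t 0 (tO t) 2 = true) t ht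
  exact ⟨R t, 0, tO t, 2, hT _ _ (is_R h1), h3, sq_R h2⟩

theorem deg : DegList Spor.J4 degL := by
  obtain ⟨T, -, -, h⟩ := tab
  exact h.degList

end Cfsg.Agent.TAB.J4
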