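import Cfsg.Agent.TAB.J4.Ty
import Cfsg.Agent.TAB.Co.Fin
import Cfsg.Agent.TAB.Sm1.Fin

/-!
# The table of `J4` (helper55, TAB)

The types are 0:1A 1:2A 2:2B 3:3A 4:4A 5:4B 6:4C 7:5A 8:6A 9:6B 10:6C 11:7AB 12:8A 13:8B 14:8C 15:10A 16:10B 17:11A 18:11B 19:12A
    20:12B 21:12C 22:14AB 23:14CD 24:15A 25:16A 26:20AB 27:21AB 28:22A 29:22B 30:23A 31:24AB 32:28AB 33:29A 34:30A
    35:31ABC 36:33AB 37:35AB 38:37ABC 39:40AB 40:42AB 41:43ABC 42:44A 43:66AB.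
The seeds are two characters induced from `2^11:M24` and the numbers of the square roots.
-/

set_option autoImplicit false
set_option maxHeartbeats 400000
set_option maxRecDepth 100000

namespace Cfsg.Agent.TAB.J4

open Cfsg Subgroup Cfsg.Agent.TAB.Eng Cfsg.Agent.TAB.Use
open Cfsg.Agent.SporadicStructure.M24El Cfsg.Agent.H334.Ore

/-- the permutation character on the cosets of `2^11:M24` -/
def sd0 : List ℤ := [173067389, 52349, 8317, 737, 957, 253, 141, 14, 77, 41, 37, 5, 5, 13, 13, 14, 2, 0, 11, 9, 13, 3, 3, 1, 2, 1, 2, 2, 0, 1, 2, 1, 1, 0,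
    2, 0, 0, 0, 0, 0, 0, 0, 0, 0]

/-- the character induced from the permutation character of degree 24 -/
def sd1 : List ℤ := [4153617336, 65208, 36984, 462, 440, 392, 176, 56, 462, 30, 30, 15, 20, 24, 20, 8, 4, 0, 22, 2, 2, 2, 3, 3, 2, 2, 0, 0, 0, 2, 2, 0, 1,
    0, 2, 0, 0, 0, 0, 0, 0, 0, 0, 0]

/-- the numbers of the square roots -/
def sd2 : List ℤ := [51747149312, 225792, 42240, 2312, 4224, 320, 0, 92, 0, 24, 48, 26, 0, 0, 16, 12, 0, 122, 12, 0, 8, 0, 0, 2, 2, 0, 4, 2, 6, 0, 1, 0, 0,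
    1, 0, 1, 2, 1, 1, 0, 0, 1, 0, 0]

/-- the sums of the Galois orbits of the irreducible characters -/
def rows0 : List (List ℤ) := [
[1, 1, 1, 1, 1, 1, 1, 1, 1, 1, 1, 1, 1, 1, 1, 1, 1, 1, 1, 1, 1, 1, 1, 1, 1, 1, 1, 1, 1, 1, 1, 1, 1, 1, 1, 1, 1, 1, 1, 1, 1, 1, 1, 1],
[2666, 106, -22, 20, -22, 10, -6, 6, -20, 4, -4, -1, 2, -6, 2, 6, -2, 4, 4, -4, 4, 0, 1, -1, 0, -2, -2, -1, -4, 0, -2, 0, 1, -2, 0, 0,
    -2, -1, 2, 2, 1, 0, 0, 2],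
[598734, -306, 462, 90, -178, 14, 14, -6, 90, -6, -6, -4, -2, -2, -2, -6, 2, 26, 4, 2, 2, 2, 2, 0, 0, -2, 2, -1, 2, 0, -2, -2, 0, 0, 0,
    0, 2, 1, 0, -2, -1, 2, -2, 2],
[1775556, 1476, -1212, 90, 68, -28, 20, 6, 90, -6, -6, -1, 12, 4, -4, 6, -2, 2, 2, 2, 2, 2, -1, -1, 0, 0, -2, -1, 2, -2, 2, -2, -1, 2,
    0, 0, 2, -1, 0, 2, -1, 0, 2, 2],
[889111, 2071, 727, 55, 87, 39, -1, 6, 55, 7, 7, -1, -5, 7, 3, 6, 2, 3, 3, 3, 3, -1, -1, -1, 0, 1, 2, -1, 3, 1, 0, 1, -1, 0, 0, 0, 0,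
    -1, 1, 0, -1, 0, -1, 0],
[2374290, 1170, -750, -90, -110, -14, 34, 0, -90, 6, 6, -5, 10, 2, -6, 0, 0, 28, 6, -2, -2, -2, 1, -1, 0, -2, 0, 1, 4, -2, 0, 2, -1, 2,
    0, 0, -2, 0, 0, 0, 1, 2, 0, -2],
[1776888, 2808, 120, 99, 120, 24, 8, 8, 99, 3, 3, 1, 0, 8, 0, 8, 0, 3, 3, 3, 3, -1, 1, 1, -1, 0, 0, 1, 3, -1, 0, -1, 1, 0, -1, -1, 0,
    1, 0, 0, 1, -1, -1, 0],
[6806298, -1254, -1254, -132, 154, 26, -6, 28, 132, 12, -12, -5, 10, -6, -6, -4, -4, 48, 4, 4, -4, 0, -1, -1, -2, 2, 4, 1, 0, 0, 0, 0,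
    1, -2, 2, 0, 0, 0, 0, 0, -1, 0, 0, 0],
[4290927, 1647, 175, 141, 175, 31, 7, -8, -99, -3, 13, 4, -5, -1, 3, -8, 0, 25, 3, 1, 1, 1, 2, 0, 1, 1, 0, 1, -3, -1, 1, -1, 0, 0, 1,
    0, -2, -1, 0, 0, -1, 0, -1, 0],
[64614726, -12474, 198, 0, 198, 102, -42, 6, 0, 0, 0, -6, -18, 6, -2, 6, -2, 0, 0, 0, 0, 0, 0, 2, 0, 2, -2, 0, 0, 0, -2, 0, 0, 0, 0, 0,
    0, -1, -2, 2, 0, 2, 0, 0],
[65794214, -10586, -1498, 20, 422, 70, -42, -6, -20, 4, -4, -4, -2, 6, -2, -6, 2, -20, 2, -4, 4, 0, -2, 0, 0, 2, 2, -1, -4, -2, 0, 0,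
    0, 0, 0, 0, -2, 1, 0, -2, 1, 0, 4, 2]]

/-- the sums of the Galois orbits of the irreducible characters -/
def rows1 : List (List ℤ) := [
[70822290, 20370, 6930, 210, 530, 50, 98, 0, 210, 18, 18, 0, 10, 2, 10, 0, 0, 22, 0, 2, 2, 2, 0, 0, 0, -2, 0, 0, -2, 0, 0, 2, 0, -2, 0,
    0, 1, 0, -2, 0, 0, 0, 2, 1],
[95288172, 25452, 364, 231, 44, 108, 28, 7, -189, 15, -5, 0, 4, -4, -4, 7, -1, -54, 1, -1, 3, 1, 0, 0, 1, 0, -1, 0, -2, 1, 0, -1, 0, 1,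
    1, 0, 0, 0, 0, -1, 0, 0, 0, -2],
[230279749, 11333, 6853, -308, 197, 37, 21, 14, 308, -4, 4, 0, 5, -3, -3, -2, -2, 51, -4, -4, 4, 0, 0, 0, 2, 1, 2, 0, 3, 0, 0, 0, 0, 0,
    -2, 0, 0, 0, 0, 0, 0, 0, -1, 0],
[519550080, 13440, 13440, 420, 640, 128, 0, 0, -420, -12, 12, 0, 0, 0, 0, 0, 0, 38, -6, 4, -4, 0, 0, 0, 0, 0, 0, 0, -2, -2, -2, 0, 0,
    0, 0, 0, 2, 0, 2, 0, 0, 0, 2, -2],
[300364890, 34650, -7910, 420, -550, 42, -14, 0, 0, 12, -8, 0, -10, -6, 6, 0, 0, 56, 1, -4, 0, -2, 0, 0, 0, 0, 0, 0, 0, -1, 1, 0, 0, 0,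
    0, 0, 2, 0, 0, 0, 0, 0, 0, 0],
[366159104, -2816, -1792, 440, 768, 0, 0, -6, -440, -8, 8, -4, 0, 0, 0, -6, -2, 36, 3, 0, 0, 0, -2, 0, 0, 0, -2, -1, 0, 1, 1, 0, 0, 0,
    0, 0, 0, 1, 0, 0, 1, 0, -2, 0],
[393877506, -10494, 7106, 561, 66, -110, -22, 1, -99, 9, 5, 1, 6, 2, -2, 1, 1, 0, 0, -3, 1, -1, -1, 1, 1, 0, 1, 1, 0, 0, -1, -1, -1,
    -1, 1, 0, 0, 1, 0, 1, -1, 0, 0, 0],
[394765284, -9756, -2716, 309, 804, 4, -28, -1, -351, -3, -7, 4, 4, 4, -4, -1, -1, 1, 1, -3, 1, -1, 2, 0, -1, 0, -1, 1, 1, 1, 0, 1, 0,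
    0, -1, 0, 1, -1, 0, -1, -1, 0, 1, 1],
[460559498, 24458, 6986, 329, -54, 90, -14, -7, 329, -7, -7, 0, 6, 2, 6, -7, 1, -19, 3, -3, -3, 1, 0, 0, -1, 0, 1, 0, 5, 1, 0, -1, 0,
    0, -1, 0, -1, 0, 0, 1, 0, 0, 1, -1],
[493456605, 16605, 7645, -120, 285, 29, 13, 0, 540, 0, 4, 5, 5, -3, -3, 0, 0, -29, 4, 0, -4, -2, 1, 1, 0, 1, 0, -1, -5, 0, 0, 0, -1, 0,
    0, 0, 1, 0, 0, 0, 1, 0, -1, 1],
[690839247, 23247, -10801, 21, 79, 15, -49, 7, 441, -3, 17, 0, -1, -1, -1, 7, -1, 32, -1, 1, -3, -1, 0, 0, 1, -1, -1, 0, 4, 1, 0, -1,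
    0, 0, 1, 0, -1, 0, 0, -1, 0, 0, 2, 1]]

/-- the sums of the Galois orbits of the irreducible characters -/
def rows2 : List (List ℤ) := [
[786127419, 16443, 3003, 252, 187, -37, -21, 14, -252, 12, -12, 0, -5, 3, 3, -2, -2, -22, 0, 4, -4, 0, 0, 0, 2, -1, 2, 0, -2, 0, 0, 0,
    0, 1, -2, 0, -1, 0, 0, 0, 0, 0, 0, 1],
[1572254838, 32886, 6006, -252, 374, -74, -42, 28, 252, -12, 12, 0, -10, 6, 6, -4, -4, -44, 0, -4, 4, 0, 0, 0, -2, -2, 4, 0, -4, 0, 0,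
    0, 0, 2, 2, 0, 1, 0, 0, 0, 0, 0, 0, -1],
[789530568, 49608, -440, -111, -440, 40, -8, 8, -351, -15, 1, 1, 0, -8, 0, 8, 0, 2, 2, 1, 1, 1, -1, 1, -1, 0, 0, 1, -2, 0, 0, 1, -1, 0,
    -1, 0, -1, 1, 0, 0, -1, 0, 0, 1],
[1770515712, 48384, -16128, 0, 768, 0, 0, 42, 0, 0, 0, 0, 0, 0, 0, -6, 2, -90, -2, 0, 0, 0, 0, 0, 0, 0, -2, 0, 6, -2, 0, 0, 0, -2, 0,
    2, 0, 0, 0, 0, 0, 0, -2, 0],
[2032814336, 55552, 19712, -112, 768, 0, 0, -14, 112, 16, -16, 0, 0, 0, 0, 2, 2, 58, -8, 0, 0, 0, 0, 0, -2, 0, -2, 0, 2, 0, 0, 0, 0, 2,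
    2, 0, -2, 0, 0, 0, 0, 0, -2, 2],
[1085604531, -17229, -9933, 330, 307, 19, 35, 6, 330, -6, -6, 4, -5, 3, -5, 6, 2, 33, 0, -2, -2, 2, -2, 0, 0, -1, 2, 1, -3, 0, 0, 0, 0,
    0, 0, 0, 0, -1, 0, 0, 1, 0, -1, 0],
[1089007680, 14400, -3520, -330, 320, -64, -64, 0, -90, 6, -10, 5, 0, 0, 0, 0, 0, 57, 2, 2, 2, 2, 1, 1, 0, 0, 0, -1, 1, 0, 0, 0, -1,
    -1, 0, 0, 0, 0, 0, 0, 1, 0, 1, -2],
[1182518964, -32076, 10164, 99, -396, -12, -28, -1, 99, 3, 3, 4, 4, -4, 4, -1, -1, 0, 0, 3, 3, -1, -2, 0, -1, 0, -1, 1, 0, 0, 0, -1, 0,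
    0, -1, 1, 0, -1, 0, -1, 1, 1, 0, 0],
[1183406741, -31339, 341, -154, 341, 101, -35, 1, -154, -10, -10, 6, 1, -3, 1, 1, 1, 0, 0, 2, 2, -2, 0, -2, 1, -1, 1, 0, 0, 0, 0, 0, 0,
    0, 1, 0, 0, 1, -1, 1, 0, 0, 0, 0],
[1183406741, 39061, 6677, 440, -363, -75, -27, 6, -440, -8, 8, -1, 5, -3, -3, 6, 2, 0, 0, 0, 0, 0, 1, -1, 0, 1, 2, -1, 0, 0, 0, 0, 1,
    0, 0, 0, 0, -1, -1, 0, 1, 0, 0, 0],
[1184295852, -29268, 10284, -99, -276, 12, -20, 7, -99, -3, -3, 5, 4, 4, 4, 7, -1, 3, 3, -3, -3, 1, -1, 1, 1, 0, -1, -1, 3, -1, 0, 1,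
    1, 0, 1, 0, 0, 0, 0, -1, -1, 0, -1, 0]]

/-- the sums of the Galois orbits of the irreducible characters -/
def rows3 : List (List ℤ) := [
[4337827830, -39690, 20790, 0, 630, -90, 126, 0, 0, 0, 0, 0, -30, -18, -6, 0, 0, -27, 6, 0, 0, 0, 0, 0, 0, 0, 0, 0, 9, 0, 0, 0, 0, 0,
    0, 0, 0, 0, 0, 0, 0, -1, 3, 0],
[1509863773, -5027, -7139, -176, -99, 45, -27, -7, -176, 16, 16, 5, 1, -3, -7, -7, 1, 0, 0, 0, 0, 0, -1, 1, -1, -1, 1, -1, 0, 0, 0, 0,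
    1, 1, -1, 0, 0, 0, 0, 1, -1, 0, 0, 0],
[1579061136, 31632, 4752, -384, 528, -48, -48, -14, 384, 0, 0, -5, 0, 0, 0, 2, 2, 4, 4, 0, 0, 0, -1, -1, 1, 0, -2, 1, -4, 0, 0, 0, 1,
    0, -1, 0, 1, 0, 0, 0, -1, 0, 0, -1],
[1842237992, 1064, 3752, -385, -472, 8, 56, 42, -385, -1, -1, 0, 0, 8, 0, -6, 2, 45, 1, -1, -1, -1, 0, 0, 0, 0, -2, 0, -3, 1, 0, -1, 0,
    0, 0, 0, 0, 0, 0, 0, 0, 0, 1, 0],
[1903741279, 26719, -737, 385, -737, -17, 7, -6, 385, 1, 1, 6, -5, 7, -5, -6, -2, 0, 0, 1, 1, 1, 0, -2, 0, 1, -2, 0, 0, 0, -1, 1, 0, 0,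
    0, 0, 0, 1, 0, 0, 0, 0, 0, 0],
[5945425920, 0, 0, 0, 0, 0, 0, 0, 0, 0, 0, 0, 0, 0, 0, 0, 0, -72, -6, 0, 0, 0, 0, 0, 0, 0, 0, 0, 0, 0, 3, 0, 0, -3, 0, -3, 0, 0, 1, 0,
    0, 3, 0, 0],
[6003455535, -31185, -31185, 0, 495, -81, 63, 0, 0, 0, 0, 0, 15, -9, 15, 0, 0, 0, 0, 0, 0, 0, 0, 0, 0, 3, 0, 0, 0, 0, -3, 0, 0, 3, 0,
    -1, 0, 0, 0, 0, 0, 0, 0, 0],
[2267824128, -49152, 0, 384, 0, 0, 0, 8, 384, 0, 0, -4, 0, 0, 0, 8, 0, 20, -2, 0, 0, 0, 2, 0, -1, 0, 0, -1, -4, 0, 1, 0, 0, 0, -1, 1,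
    -1, 1, 0, 0, -1, 0, 0, -1],
[2692972480, -34880, 3520, -230, -320, 64, -64, 0, -230, 10, 10, -5, 0, 0, 0, 0, 0, -11, 0, -2, -2, 2, 1, -1, 0, 0, 0, 1, 1, 0, 0, 0,
    -1, 0, 0, 0, 1, 0, 0, 0, 1, -1, -1, 1],
[2727495848, 25256, -4312, -385, -88, 8, 56, -42, -385, -1, -1, 0, 0, 8, 0, 6, -2, 0, 0, -1, -1, -1, 0, 0, 0, 0, 2, 0, 0, 0, 0, -1, 0,
    -1, 0, 1, 0, 0, 0, 0, 0, 0, 0, 0],
[3054840657, 1617, -495, 231, -495, 33, -7, -8, 231, -9, -9, -6, 5, 1, -3, -8, 0, 0, 0, 3, 3, -1, 0, 2, 1, -1, 0, 0, 0, 0, 0, 1, 0, 0,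
    1, 0, 0, -1, 0, 0, 0, -1, 0, 0]]

/-- the sums of the Galois orbits of the irreducible characters -/
def rows : List (List ℤ) := rows0 ++ (rows1 ++ (rows2 ++ rows3))

/-- the orbits -/
def blocks : List (List (ℕ × ℤ)) := [[(0, 1)], [(1, 1), (2, 1)], [(3, 1), (4, 1)], [(5, 1), (6, 1)], [(7, 1)], [(8, 1), (9, 1)], [(10, 1)], [(11, 1), (12, 1)], [(13, 1)],
    [(14, 1), (15, 1)], [(16, 1), (17, 1)], [(18, 1), (19, 1)], [(20, 1)], [(21, 1)], [(22, 1), (23, 1)], [(24, 1)], [(25, 1)], [(26,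
    1)], [(27, 1)], [(28, 1)], [(29, 1)], [(30, 1)], [(31, 1)], [(32, 1), (33, 1)], [(34, 1)], [(35, 1), (36, 1)], [(37, 1), (38, 1)],
    [(39, 1)], [(40, 1)], [(41, 1)], [(42, 1)], [(43, 1)], [(44, 1)], [(45, 1), (46, 1), (47, 1)], [(48, 1)], [(49, 1)], [(50, 1)],
    [(51, 1)], [(52, 1), (53, 1), (54, 1)], [(55, 1), (56, 1), (57, 1)], [(58, 1)], [(59, 1)], [(60, 1)], [(61, 1)]]

/-- the degrees -/
def degL : List ℕ := [1, 1333, 1333, 299367, 299367, 887778, 887778, 889111, 1187145, 1187145, 1776888, 3403149, 3403149, 4290927, 32307363, 32307363,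
    32897107, 32897107, 35411145, 35411145, 95288172, 230279749, 259775040, 259775040, 300364890, 366159104, 393877506, 394765284,
    460559498, 493456605, 690839247, 786127419, 786127419, 786127419, 789530568, 885257856, 885257856, 1016407168, 1016407168,
    1085604531, 1089007680, 1182518964, 1183406741, 1183406741, 1184295852, 1445942610, 1445942610, 1445942610, 1509863773, 1579061136,
    1842237992, 1903741279, 1981808640, 1981808640, 1981808640, 2001151845, 2001151845, 2001151845, 2267824128, 2692972480, 2727495848,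
    3054840657]

/-- the table -/
def RR : Rows := ⟨degL, blocks.zip rows⟩

/-- the primes and the sections -/
def PL : List (ℕ × ℕ × List ℕ) := [(2, 21, [0, 3, 7, 11, 17, 18, 24, 27, 36]),
  (3, 3, [0, 1, 2, 4, 5, 6, 7, 11, 13, 15, 17, 22, 28]),
  (5, 1, [0, 1, 2, 3, 4, 8, 11, 12]),
  (7, 1, [0, 1, 2, 3, 6, 7, 8]),
  (11, 3, [0, 1, 2, 3, 4, 8]),
  (23, 1, [0]),
  (29, 1, [0]),
  (31, 1, [0]),
  (37, 1, [0]),
  (43, 1, [0])]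

/-- the certificates -/
def CA : List (ℕ × ℕ × List Cert) := [
  (2, 21, [
⟨0, [.gen 0 1 0, .mul 0 0, .mul 1 0, .mul 2 0, .mul 3 0, .gen 1 1 0, .mul 5 0, .mul 6 0, .mul 7 0, .mul 3 3, .mul 4 3, .mul 5 3, .mul 6
    2, .mul 7 2, .mul 8 1, .gen 2 1 0, .gen 1 1 1, .lin [(1453824, 12), (1136140, 9), (201924, 8), (644895, 6), (1471229, 5), (1478528,
    4), (1832510, 3), (1067760, 2), (1213040, 1), (1629888, 0)], .lin [(446334, 14), (1698938, 13), (1291709, 10), (1111459, 9),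
    (1361300, 6), (1982723, 4), (2009439, 2), (1972700, 1)], .lin [(560960, 14), (1817117, 11), (875631, 10), (1702806, 7), (343194,
    5), (52210, 3), (683536, 2)], .lin [(209376, 15), (1289560, 11), (11626, 8), (671617, 6), (1532180, 4), (22584, 3)], .lin [(601077,
    17), (1666355, 16), (1123858, 12), (1492653, 9), (891239, 7), (1205913, 4)], .lin [(118124, 17), (921992, 13), (1606625, 10),
    (1550775, 8), (546377, 5)], .lin [(1803462, 14), (146845, 11), (1711602, 9), (385550, 6)], .lin [(502198, 19), (1846053, 15)], .lin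
    [(1, 20)]], [(9, 1), (6, 2), (7, 8), (8, 8), (5, 8), (3, 64), (4, 128), (2, 512), (0, 8192)]⟩,
⟨3, [.one, .gen 0 1 0, .mul 0 0, .mul 1 0, .mul 2 0, .gen 1 1 0, .mul 4 0, .mul 5 0, .mul 2 2, .lin [(1095843, 8), (480802, 7),
    (285648, 6), (553646, 5), (1778365, 4), (206640, 3), (518496, 2), (1522544, 1)], .lin [(970469, 9), (1408979, 8), (1497259, 7),
    (317597, 6), (1447004, 4), (1616948, 3), (1049160, 1)], .lin [(921372, 10), (183252, 9), (684358, 8), (308170, 7), (2078583, 5),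
    (1891529, 4)], .lin [(983526, 6), (32525, 3)], .lin [(1101007, 12), (419428, 11), (576717, 10), (419432, 7)], .lin [(349525, 13),
    (1747627, 12), (349525, 8)], .lin [(1048579, 14), (1048575, 13)], .lin [(1, 15)]], [(6, 1), (7, 2), (4, 2), (5, 8), (0, 8), (1,
    16), (2, 64), (3, 256)]⟩,
⟨7, [.one, .gen 0 1 0, .mul 0 0, .gen 1 1 0, .mul 2 0, .lin [(1019448, 3), (1063140, 2), (7282, 1), (258503, 0)], .lin [(1597830, 4),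
    (1298237, 3)], .lin [(1048578, 5), (1572863, 3)], .lin [(1, 6)], .lin [(1, 8)]], [(4, 1), (2, 2), (3, 4), (0, 8), (1, 64)]⟩,
⟨11, [.one, .gen 0 1 0, .mul 0 0, .gen 1 1 0, .lin [(2097137, 3), (1048592, 2), (1048571, 1), (4, 0)], .lin [(1258291, 3), (838861,
    1)], .lin [(1048579, 5), (1048575, 4)], .lin [(1, 6)]], [(1, 1), (3, 2), (0, 2), (2, 8)]⟩,
⟨17, [.one, .gen 2 1 0, .mul 0 0, .lin [(1584918, 1), (726169, 0)], .lin [(825109, 2)], .lin [(1, 4)]], [(2, 1), (0, 2), (1, 8)]⟩,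
⟨18, [.one, .gen 0 1 0, .lin [(1887439, 1), (209715, 0)], .lin [(1, 2)]], [(0, 1), (1, 2)]⟩,
⟨24, [.one, .gen 2 1 0, .lin [(2, 1), (1048575, 0)], .lin [(1, 2)]], [(0, 1), (1, 2)]⟩,
⟨27, [.one, .gen 0 1 0, .lin [(2, 1), (1048575, 0)], .lin [(1, 2)]], [(0, 1), (1, 2)]⟩,
⟨36, [.one, .gen 2 1 0, .lin [(2, 1), (1048575, 0)], .lin [(1, 2)]], [(0, 1), (1, 2)]⟩]),
  (3, 3, [
⟨0, [.one, .lin [(1, 0)]], [(0, 1)]⟩,
⟨1, [.one, .gen 2 1 0, .lin [(12, 1), (4, 0)], .lin [(1, 2)]], [(2, 1), (0, 3)]⟩,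
⟨2, [.one, .gen 0 1 0, .lin [(26, 1), (1, 0)], .lin [(1, 2)]], [(0, 1), (1, 9)]⟩,
⟨4, [.one, .gen 0 1 0, .lin [(12, 1), (17, 0)], .lin [(1, 2)]], [(0, 1), (1, 3)]⟩,
⟨5, [.one, .gen 0 1 0, .lin [(17, 1), (1, 0)], .lin [(1, 2)]], [(0, 1), (1, 3)]⟩,
⟨6, [.one, .gen 0 1 0, .lin [(6, 1), (17, 0)], .lin [(1, 2)]], [(0, 1), (1, 3)]⟩,
⟨7, [.one, .gen 0 1 0, .lin [(8, 1), (11, 0)], .lin [(1, 2)]], [(0, 1), (1, 3)]⟩,
⟨11, [.one, .gen 0 1 0, .lin [(23, 1), (17, 0)], .lin [(1, 2)]], [(0, 1), (1, 3)]⟩,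
⟨13, [.one, .gen 0 1 0, .lin [(19, 1), (11, 0)], .lin [(1, 2)]], [(0, 1), (1, 3)]⟩,
⟨15, [.one, .gen 0 1 0, .lin [(8, 1), (11, 0)], .lin [(1, 2)]], [(0, 1), (1, 3)]⟩,
⟨17, [.one, .gen 2 1 0, .lin [(8, 1), (11, 0)], .lin [(1, 2)]], [(0, 1), (1, 3)]⟩,
⟨22, [.one, .gen 0 1 0, .lin [(3, 1), (17, 0)], .lin [(1, 2)]], [(0, 1), (1, 3)]⟩,
⟨28, [.one, .gen 2 1 0, .lin [(3, 1), (4, 0)], .lin [(1, 2)]], [(0, 1), (1, 3)]⟩]),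
  (5, 1, [
⟨0, [.one, .lin [(1, 0)]], [(0, 1)]⟩,
⟨1, [.one, .lin [(1, 0)]], [(0, 1)]⟩,
⟨2, [.one, .lin [(1, 0)]], [(0, 1)]⟩,
⟨3, [.one, .lin [(1, 0)]], [(0, 1)]⟩,
⟨4, [.one, .lin [(1, 0)]], [(0, 1)]⟩,
⟨8, [.one, .lin [(1, 0)]], [(0, 1)]⟩,
⟨11, [.one, .lin [(1, 0)]], [(0, 1)]⟩,
⟨12, [.one, .lin [(1, 0)]], [(0, 1)]⟩]),
  (7, 1, [
⟨0, [.one, .lin [(1, 0)]], [(0, 1)]⟩,
⟨1, [.one, .lin [(1, 0)]], [(0, 1)]⟩,
⟨2, [.one, .lin [(1, 0)]], [(0, 1)]⟩,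
⟨3, [.one, .lin [(1, 0)]], [(0, 1)]⟩,
⟨6, [.one, .lin [(1, 0)]], [(0, 1)]⟩,
⟨7, [.one, .lin [(1, 0)]], [(0, 1)]⟩,
⟨8, [.one, .lin [(1, 0)]], [(0, 1)]⟩]),
  (11, 3, [
⟨0, [.one, .gen 0 1 0, .lin [(132, 1), (1198, 0)], .lin [(1, 2)]], [(2, 1), (0, 11)]⟩,
⟨1, [.one, .gen 0 1 0, .lin [(11, 1), (608, 0)], .lin [(1, 2)]], [(0, 1), (1, 11)]⟩,
⟨2, [.one, .gen 0 1 0, .lin [(128, 1), (1214, 0)], .lin [(1, 2)]], [(0, 1), (1, 11)]⟩,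
⟨3, [.one, .gen 0 1 0, .lin [(11, 1), (912, 0)], .lin [(1, 2)]], [(0, 1), (1, 11)]⟩,
⟨4, [.one, .gen 0 1 0, .lin [(11, 1), (1057, 0)], .lin [(1, 2)]], [(0, 1), (1, 11)]⟩,
⟨8, [.one, .gen 0 1 0, .lin [(11, 1), (432, 0)], .lin [(1, 2)]], [(0, 1), (1, 11)]⟩]),
  (23, 1, [
⟨0, [.one, .lin [(1, 0)]], [(0, 1)]⟩]),
  (29, 1, [
⟨0, [.one, .lin [(1, 0)]], [(0, 1)]⟩]),
  (31, 1, [
⟨0, [.one, .lin [(1, 0)]], [(0, 1)]⟩]),
  (37, 1, [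
⟨0, [.one, .lin [(1, 0)]], [(0, 1)]⟩]),
  (43, 1, [
⟨0, [.one, .lin [(1, 0)]], [(0, 1)]⟩])]

theorem ok_A : allL (fun y => chkP D y.1 y.2.1 (y.1 ^ y.2.1) [sd0, sd1, sd2] y.2.2 rows) CA = true := by
  decide +kernel

theorem ok_R : Sm1.okR D RR = true := by decide +kernel

variable {T : TD Spor.J4 D}

open Classical in
theorem sum_ty (hT : ∀ g t, Is t g → T.ty g = t) {i t : ℕ} (hi : i < 26) (ht : t < 44) :
    ∑ v ∈ Finset.range 2048, (if T.ty (E (v, mP i)) = t then (1 : ℂ) else 0) = look (mK i) t := by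
  rw [← cnt_H hi ht, Finset.sum_boole, List.countP_eq_length_filter,
    ← List.toFinset_card_of_nodup (List.nodup_range.filter _)]
  refine congrArg _ (congrArg _ (Finset.ext fun v => ?_))
  simp only [Finset.mem_filter, Finset.mem_range, List.mem_toFinset, List.mem_filter, List.mem_range, Nat.beq_eq]
  exact and_congr_right fun hv => by rw [hT _ _ (is_H hi hv)]

theorem virt_H (hm : T.Mass) (hr : ON.Rat T) (hT : ∀ g t, Is t g → T.ty g = t) {χ : M24 → ℕ}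
    (h1 : IsGeneralizedCharacter (KS ⊤) fun x => (χ (piH x) : ℂ)) (h2 : ∀ g c, χ (c * g * c⁻¹) = χ g) {a : ℕ → ℕ}
    (h3 : ∀ i, χ (el (mP i)) = a i) {u : List ℤ}
    (h : ∀ t < 44, (D.N * ((List.range 26).map fun i => 244823040 / mN i * (a i * look (mK i) t)).sum : ℕ) =
      (2048 * 244823040 : ℕ) * (D.cnt t * nth u t)) : Virt T (nth u) := by
  classical
  have := Fintype.ofFinite (KS ⊤)
  refine ON.virt_ind hm hr (KS ⊤) h1 (fun x => ⟨χ (piH x), by simp⟩) fun t ht => ?_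
  have h4 := sum_H (f := fun g => if T.ty g = t then 1 else 0) (fun g c => by simp only [T.conj])
    (χ := fun g => (χ g : ℂ)) fun g c => by simp only [h2]
  simp only [ite_mul, one_mul, zero_mul] at h4
  have h5 := congrArg (Int.cast : ℤ → ℂ) (h t ht)
  rw [Sm1.sum_range_fin] at h5
  rw [h4, card_KS, card_top, card_M24, Finset.sum_congr rfl fun i _ => by rw [sum_ty hT i.2 ht, h3]]
  push_cast at h5 ⊢
  exact h5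

/-- **the table** -/
theorem tab : ∃ T : TD Spor.J4 D, T.Mass ∧ (∀ g t, Is t g → T.ty g = t) ∧ Tab T RR := by
  obtain ⟨T, hm, hr, hT⟩ := exists_T
  have h0 : Virt T (nth sd0) := virt_H hm hr hT (χ := fun _ => 1) (by simpa using gen_const (KS ⊤) 1) (fun _ _ => rfl)
    (a := fun _ => 1) (fun _ => rfl) (by decide +kernel)
  have h1 : Virt T (nth sd1) := virt_H hm hr hT gen_fx (fun g c => Mat.fx_conj c g) (a := fun i => Mat.fc (mP i) 1)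
    (fun i => by rw [← Mat.fx_pow (ok_mP i), pow_one]) (by decide +kernel)
  have h2 : Virt T (nth sd2) := ON.virt_coad (u := List.replicate 44 1) (k := 2) hm hr
    ((Virt.const 1).congr (by decide +kernel)) (by decide +kernel)
  have h3 := Co.virt_of_certs (PL := PL) hm.1 (by decide +kernel)
    (List.forall_mem_cons.2 ⟨h0, List.forall_mem_cons.2 ⟨h1, List.forall_mem_singleton.2 h2⟩⟩) (allL_spec ok_A)
    (by decide +kernel)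
  exact ⟨T, hm, hT, Sm1.tab_of_cls hm (fun r hr => h3 _ (List.of_mem_zip hr).2) ok_R card_classes.ge⟩

end Cfsg.Agent.TAB.J4
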