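import Cfsg.Agent.TAB.J4.Elv

/-!
# The elements of `J4` whose order is divisible by 5, 7, 29, 31, 37 or 43 (helper55, TAB)
-/

set_option autoImplicit false
set_option maxHeartbeats 400000

namespace Cfsg.Agent.TAB.J4

open Cfsg Subgroup Cfsg.Agent.J4.Rep112 Cfsg.Agent.Lib Cfsg.Agent.Lib.F2MatGroup
open Cfsg.Agent.H860 Cfsg.Agent.H860.PairGroup
open Cfsg.Agent.SporadicStructure.M24El
open Cfsg.Agent.H858 Cfsg.Agent.H858.Elem Cfsg.Agent.H858.Data
open Cfsg.Agent.H858.VK (rho_injective)
open Cfsg.Agent.H859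

theorem card_J4 : Nat.card Spor.J4 = 86775571046077562880 := FixJ4.card_J4

/-! ### primes -/

theorem nc_pow {x : Spor.J4} {m k e : ℕ}
    (h : Nat.card (normalizer ((zpowers (x ^ e) : Subgroup Spor.J4) : Set Spor.J4)) = cc (x ^ e) * m)
    (hk : ¬ k ^ m ≡ 1 [MOD orderOf (x ^ e)]) : ¬ IsConj x (x ^ k) := fun hc => hk (pow_mod h (by
  rw [← pow_mul, mul_comm, pow_mul]
  exact isConj_pow hc e))

theorem cc_s : cc s = 840 := by rw [← cc_zpowers, ← Loc7.S7_eq', Loc7.card_C]

theorem cc_f : cc f = 6720 := (cc_zpowers f).symm.trans Loc5.card_C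

theorem nc7 {x : Spor.J4} {k : ℕ} (e : ℕ) (h : orderOf x = e * 7) (hk : ¬ k ^ 3 ≡ 1 [MOD 7]) :
    ¬ IsConj (x ^ 1) (x ^ k) := by
  have : Fact (Nat.Prime 7) := ⟨by norm_num⟩
  have h0 := orderOf_pos x
  have h1 : orderOf (x ^ e) = 7 := by
    rw [orderOf_pow, h, Nat.gcd_mul_right_left, Nat.mul_div_cancel_left _ (by
      rw [h] at h0
      exact Nat.pos_of_mul_pos_right h0)]
  have h2 : Nat.card (zpowers (x ^ e)) = 7 := by rw [Nat.card_zpowers, h1]
  have h3 : ¬ 7 * 7 ∣ Nat.card Spor.J4 := by rw [card_J4]; norm_num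
  rw [pow_one]
  refine nc_pow (m := 3) (e := e) ?_ (by rwa [h1])
  rw [← cc_zpowers, PrimeSub.card_normalizer_eq h2 Norm57.card_S7 h3,
    PrimeSub.card_centralizer_eq h2 Norm57.card_S7 h3, Loc7.card_C, Norm57.card_normalizer_S7]

theorem ncp {x : Spor.J4} {p m c : ℕ} (hx : orderOf x = p) (h : ∀ {P : Subgroup Spor.J4}, Nat.card P = p →
    Nat.card (centralizer (P : Set Spor.J4)) = p ∧ Nat.card (normalizer (P : Set Spor.J4)) = p * m)
    (hc : Nat.Coprime p c) (h1 : ¬ c ^ m ≡ 1 [MOD p]) (h2 : ¬ (c * c) ^ m ≡ 1 [MOD p]) :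
    [1, c, c * c].Pairwise fun a b => ¬ IsConj (x ^ a) (x ^ b) := by
  have key : ∀ {y : Spor.J4} {k : ℕ}, orderOf y = p → ¬ k ^ m ≡ 1 [MOD p] → ¬ IsConj y (y ^ k) := fun {y k} hy hk => by
    obtain ⟨h3, h4⟩ := h (P := zpowers y) (by rw [Nat.card_zpowers, hy])
    refine nc_pow (m := m) (e := 1) ?_ (by rwa [pow_one, hy])
    rw [pow_one, ← cc_zpowers, h3, h4]
  simp only [List.pairwise_cons, List.mem_cons, List.not_mem_nil, or_false, forall_eq_or_imp, forall_eq, pow_one,
    IsEmpty.forall_iff, implies_true, List.Pairwise.nil, and_true]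
  refine ⟨⟨key hx h1, key hx h2⟩, ?_⟩
  rw [pow_mul]
  exact key ((hx ▸ hc).orderOf_pow.trans hx) h1

theorem exists_ord {p : ℕ} (hp : p.Prime) (h : p ∣ 86775571046077562880) : ∃ x : Spor.J4, orderOf x = p := by
  have : Fact p.Prime := ⟨hp⟩
  exact exists_prime_orderOf_dvd_card' p (card_J4 ▸ h)

/-! ### the centralizer of `s` -/

/-- the symmetric group -/
noncomputable def eI : Loc7.I0 ≃* Equiv.Perm (Fin 5) := MulEquiv.ofBijective Loc7.pI (by
  rw [Nat.bijective_iff_surjective_and_card]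
  refine ⟨Loc7.pI_surjective, ?_⟩
  rw [Loc7.card_I0, Nat.card_eq_fintype_card, Fintype.card_perm, Fintype.card_fin]
  rfl)

/-- the symmetric group in `J4` -/
noncomputable def hp : Equiv.Perm (Fin 5) →* Spor.J4 := Loc7.I0.subtype.comp eI.symm.toMonoidHom

theorem hp_inj : Function.Injective hp := Loc7.I0.subtype_injective.comp eI.symm.injective

theorem hp_s (σ : Equiv.Perm (Fin 5)) : Commute s (hp σ) :=
  mem_centralizer_iff.1 (Loc7.I0_le_C (eI.symm σ).2) s (Loc7.S7_eq' ▸ mem_zpowers s)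

theorem hp_t : hp (Equiv.swap 0 1) = t := by
  have h : eI ⟨t, Loc7.t_mem⟩ = Equiv.swap 0 1 := Pent.p5_eq Pent.act_t
  rw [← h]
  exact congrArg Subtype.val (eI.symm_apply_apply _)

theorem ord_sp {σ : Equiv.Perm (Fin 5)} {n : ℕ} (h0 : 0 < n) (h1 : σ ^ n = 1) (h2 : ∀ m < n, 0 < m → σ ^ m ≠ 1)
    (h3 : Nat.Coprime 7 n) : orderOf (s * hp σ) = n * 7 := by
  have h : orderOf (hp σ) = n := by
    rw [orderOf_injective hp hp_inj]
    exact (orderOf_eq_iff h0).2 ⟨h1, h2⟩
  rw [(hp_s σ).orderOf_mul_eq_mul_orderOf_of_coprime (by rwa [Loc5.orderOf_s, h]), Loc5.orderOf_s, h, mul_comm]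

theorem com_sp {a b : Equiv.Perm (Fin 5)} (h : a * b = b * a) : Commute (s * hp a) (s * hp b) :=
  ((Commute.refl _).mul_right (hp_s b)).mul_left ((hp_s a).symm.mul_right ((show Commute a b from h).map hp))

/-- order 2 -/
def p2 : Equiv.Perm (Fin 5) := Equiv.swap 0 1
/-- order 3 -/
def p3 : Equiv.Perm (Fin 5) := Equiv.swap 2 3 * Equiv.swap 3 4

theorem ord14 : orderOf (s * hp p2) = 2 * 7 := ord_sp (by norm_num) (by decide +kernel) (by decide +kernel) (by norm_num)
theorem ord21 : orderOf (s * hp p3) = 3 * 7 := ord_sp (by norm_num) (by decide +kernel) (by decide +kernel) (by norm_num)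
theorem ord42 : orderOf (s * hp (p2 * p3)) = 6 * 7 :=
  ord_sp (by norm_num) (by decide +kernel) (by decide +kernel) (by norm_num)

theorem low21 : 42 ≤ cc (s * hp p3) :=
  Nat.le_of_dvd (cc_pos _) ((ord42.trans (by norm_num : 6 * 7 = 42)) ▸
    dvd_cc (com_sp (a := p2 * p3) (by decide +kernel)))

theorem low14 : 84 ≤ cc (s * hp p2) := by
  have h := two_mul_le_cc (x := s * hp p2) (y := s * hp (Equiv.swap 2 3)) (K := zpowers (s * hp (p2 * p3))) (by
    rintro _ ⟨n, rfl⟩
    exact (com_sp (by decide +kernel)).zpow_left n) (com_sp (by decide +kernel)) (by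
      rintro ⟨n, hn⟩
      have h1 : Commute (s * hp (Equiv.swap 2 3)) (s * hp (p2 * p3)) := hn ▸ (Commute.refl _).zpow_left n
      have h2 : Commute (hp (Equiv.swap 2 3)) (hp (p2 * p3)) := by
        have h3 := (h1.pow_left 7).pow_right 7
        rw [(hp_s _).mul_pow, (hp_s _).mul_pow, Loc7.s_pow, one_mul, one_mul, ← map_pow, ← map_pow] at h3
        rwa [show Equiv.swap (2 : Fin 5) 3 ^ 7 = Equiv.swap 2 3 by decide +kernel,
          show (p2 * p3) ^ 7 = p2 * p3 by decide +kernel] at h3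
      exact absurd (hp_inj ((map_mul hp _ _).trans (h2.eq.trans (map_mul hp _ _).symm))) (by decide +kernel))
  rwa [Nat.card_zpowers, ord42] at h

theorem two14 : IsConj (Q 1) ((s * hp p2) ^ 7) := by
  rw [(hp_s _).mul_pow, Loc7.s_pow, one_mul, ← map_pow, show p2 ^ 7 = Equiv.swap 0 1 by decide +kernel, hp_t]
  exact two_t

theorem two42 : IsConj (Q 1) ((s * hp (p2 * p3)) ^ 21) := by
  rw [(hp_s _).mul_pow, show s ^ 21 = 1 by rw [show 21 = 7 * 3 from rfl, pow_mul, Loc7.s_pow, one_pow], one_mul,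
    ← map_pow, show (p2 * p3) ^ 21 = Equiv.swap 0 1 by decide +kernel, hp_t]
  exact two_t

/-! ### the centralizer of `f` -/

/-- the code of `s` -/
def cs : ℕ × ℕ := (0, 847851038014418837357088476429308963)
/-- the code of `j` -/
def cj : ℕ × ℕ := (1224, 170874682899346549964468986301863072)

theorem s_E : s = E cs := rho_injective (JJ4.rho_s.trans (rho_E _).symm)
theorem j_E : j = E cj := rho_injective (JJ4.rho_j.trans (rho_E _).symm)

theorem ok_cj : ok cj.2 = true := by decide +kernel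
theorem ok_cs : ok cs.2 = true := by decide +kernel

theorem ord_f : orderOf f = 5 := by rw [← Nat.card_zpowers]; exact Loc5.card_F5

theorem ord_j : orderOf j = 8 := by
  rw [j_E]
  exact ord_of (ps := [2]) (by decide +kernel) (by norm_num) fun p hp h =>
    List.mem_singleton.2 ((Nat.prime_dvd_prime_iff_eq hp Nat.prime_two).1 (hp.dvd_of_dvd_pow (n := 3) h))

theorem com_fJ {k : Spor.J4} (hk : k ∈ Loc5.J) : Commute f k :=
  mem_centralizer_iff.1 (Loc5.J_le_C hk) f (mem_zpowers f)

theorem com_fj (a : ℕ) : Commute f (j ^ a) := com_fJ (pow_mem Loc5.j_mem a)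

theorem pow_fj (a k : ℕ) : (f * j ^ a) ^ k = f ^ (k % 5) * j ^ (a * k % 8) := by
  rw [(com_fj a).mul_pow, ← pow_mul, ← ord_f, ← ord_j, pow_mod_orderOf, pow_mod_orderOf]

theorem ord_fj (a : ℕ) : orderOf (f * j ^ a) = 5 * (8 / Nat.gcd 8 a) := by
  have h : orderOf (j ^ a) = 8 / Nat.gcd 8 a := by rw [orderOf_pow, ord_j]
  rw [(com_fj a).orderOf_mul_eq_mul_orderOf_of_coprime (by
    rw [ord_f]
    exact Nat.Coprime.coprime_dvd_right (ord_j ▸ orderOf_pow_dvd a) (by norm_num)), ord_f, h]

theorem ord35 : orderOf (f * s) = 5 * 7 := by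
  rw [(com_fJ Loc5.s_mem).orderOf_mul_eq_mul_orderOf_of_coprime (by rw [ord_f, Loc5.orderOf_s]; norm_num), ord_f,
    Loc5.orderOf_s]

/-- the list is closed under the conjugation by `s` and `j` -/
def clB (L : List (ℕ × ℕ)) : Bool :=
  L.all (fun x => ok x.2) && L.all fun x => [cs, cj].all fun c => L.any fun y => eqc (mc c x) (mc y c)

theorem orb_J {L : List (ℕ × ℕ)} (h : clB L = true) {a : ℕ × ℕ} (ha : a ∈ L) {k : Spor.J4} (hk : k ∈ Loc5.J) :
    ∃ y ∈ L, E y = k * E a * k⁻¹ := by
  simp only [clB, Bool.and_eq_true, List.all_eq_true, List.any_eq_true] at h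
  refine conj_mem_of_closure (S := {g | ∃ y ∈ L, E y = g}) ?_ hk _ ⟨a, ha, rfl⟩
  have key : ∀ c ∈ [cs, cj], ok c.2 = true → ∀ x ∈ L, ∃ y ∈ L, E y = E c * E x * (E c)⁻¹ := fun c hc h1 x hx => by
    obtain ⟨y, hy, h2⟩ := h.2 x hx c hc
    exact ⟨y, hy, (cj_of (by simp only [cjB, h1, h.1 x hx, h.1 y hy, h2, Bool.and_self])).symm⟩
  rintro _ (rfl | rfl) _ ⟨x, hx, rfl⟩
  · exact s_E ▸ key cs (by simp) ok_cs x hx
  · exact j_E ▸ key cj (by simp) ok_cj x hx

theorem low_J {L : List (ℕ × ℕ)} (h : clB L = true) {a b : ℕ} (ha : Tab.pw cj a ∈ L) (hb : b * L.length ≤ 5 * 1344) :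
    b ≤ cc (f * j ^ a) := by
  classical
  refine le_of_orbit Loc5.J _ (L.map fun y => f * E y).toFinset (fun k hk => ?_) Loc5.card_J
    ((List.toFinset_card_le _).trans (List.length_map _).le)
    (ord_f ▸ dvd_cc ((Commute.refl f).mul_right (com_fj a))) (by norm_num) hb
  obtain ⟨y, hy, h1⟩ := orb_J h ha hk
  refine List.mem_toFinset.2 (List.mem_map.2 ⟨y, hy, ?_⟩)
  rw [h1, E_pw ok_cj, ← j_E, ← mul_assoc, ← mul_assoc, ← mul_assoc, (com_fJ hk).eq]

/-- the class of `j ^ 4` in `J` -/
def oA : List (ℕ × ℕ) := [(1394, 984818244535754528103549039458486304), (1563, 984818244535754528103549039458486304), (165, 984818244535754528103549039458486304),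
  (1726, 984818244535754528103549039458486304), (873, 984818244535754528103549039458486304), (1495, 984818244535754528103549039458486304),
  (972, 984818244535754528103549039458486304)]

/-- the class of `j ^ 2` in `J` -/
def oB : List (ℕ × ℕ) := [(1234, 70585895573978412623092503664513760), (1537, 207856082890797559722347236596757142), (217, 881043295411814134283149423163118720),
  (26, 194793982009767551933109912229402243), (528, 183522355955539839095876565733573712), (1796, 894013442423456861128116349602181280),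
  (124, 527224265841360618866437174137999494), (217, 83915442407724642926385490054732950), (1204, 236292928487794268003718766006981293),
  (944, 527224265841360618866437174137999494), (938, 901803286448115792772728721502212480), (1661, 224653814652323255450568424658523520),
  (377, 834853710334292143972364268160615488), (1224, 839072233265124778766700075840278706), (528, 527856405392348986862409876434748498),
  (1224, 111812629042434917999848898310462627), (1796, 111812629042434917999848898310462627), (377, 183522355955539839095876565733573712),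
  (1198, 834853710334292143972364268160615488), (723, 839072233265124778766700075840278706), (1234, 64991483524447903447579057205663462),
  (522, 527064448181238049308900257064654496), (416, 62526373840948765062989544689865453), (1661, 190357057578380765495588216513238400),
  (1700, 87175839523027840835084903875567232), (522, 236292928487794268003718766006981293), (1204, 859395626131053919240083639591187120),
  (938, 190357057578380765495588216513238400), (26, 207856082890797559722347236596757142), (1912, 527064448181238049308900257064654496),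
  (1537, 87175839523027840835084903875567232), (1752, 224653814652323255450568424658523520), (1752, 901803286448115792772728721502212480),
  (416, 70585895573978412623092503664513760), (124, 881043295411814134283149423163118720), (944, 83915442407724642926385490054732950), (713,
  64991483524447903447579057205663462), (1700, 194793982009767551933109912229402243), (713, 62526373840948765062989544689865453), (723,
  894013442423456861128116349602181280), (1198, 527856405392348986862409876434748498), (1912, 859395626131053919240083639591187120)]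

theorem cl_oA : clB oA = true := by decide +kernel
theorem cl_oB : clB oB = true := by decide +kernel

theorem low10 : 960 ≤ cc (f * j ^ 4) := low_J cl_oA (by decide +kernel) (by decide)
theorem low20 : 160 ≤ cc (f * j ^ 2) := low_J cl_oB (by decide +kernel) (by decide)

theorem two_j2 : IsConj (Q 3) (j ^ 2) := by
  rw [j_E, ← E_pw ok_cj]
  exact two_of (c := 26670639957516516763227951561070674) (j := 1) (by decide +kernel)

theorem two_j5 : IsConj (Q 7) (j ^ 5) := by
  rw [j_E, ← E_pw ok_cj]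
  exact two_of (c := 18847059460234177810547642840753234) (j := 4) (by decide +kernel)

theorem two10 : IsConj (Q 1) ((f * j ^ 4) ^ 5) := by
  have h := (Q_sq (i := 3) (by norm_num)).trans (isConj_pow two_j2 2)
  rw [← pow_mul] at h
  rwa [pow_fj, pow_zero, one_mul]

theorem two20 : IsConj (Q 3) ((f * j ^ 2) ^ 5) := by
  rw [pow_fj, pow_zero, one_mul]
  exact two_j2

theorem two40 : IsConj (Q 7) ((f * j ^ 1) ^ 5) := by
  rw [pow_fj, pow_zero, one_mul]
  exact two_j5

theorem dvd5 : 5 ∣ cc (Q 3) ∧ 5 ∣ cc (Q 7) := by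
  rw [cc_conj two_j2, cc_conj two_j5, ← ord_f]
  exact ⟨dvd_cc (com_fj _), dvd_cc (com_fj _)⟩

/-- the code of `r⁻¹ j ^ 2 r` -/
def cu : ℕ × ℕ := mc cs (mc cj (mc cs (mc cj (mc cj (mc cs (mc cs cs))))))

theorem checkR : check 112 codes (J4.LowerData.slpQ ++ slpX) [([0, 0, 2], [2, 9, 0, 9, 0, 0, 9, 9, 9])] [] = true := by
  decide +kernel

theorem conj_r : j ^ 2 * r = r * E cu := by
  have h := (PGLWords.check_J4 checkR).1 _ List.mem_cons_self
  rw [J4.Classes.runG_append] at h
  simp only [evG_cons, evG_nil, mul_one] at h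
  have h1 : j * (j * r) = r * (s * (j * (s * (j * (j * (s * (s * s))))))) := by
    rw [j_eq, r_eq, sg_eq]
    exact h
  have k1 := ok_mc ok_cs (ok_mc ok_cs ok_cs)
  have k2 := ok_mc ok_cj (ok_mc ok_cj k1)
  rw [pow_two, mul_assoc, h1, s_E, j_E, cu, E_mc ok_cs (ok_mc ok_cj (ok_mc ok_cs k2)), E_mc ok_cj (ok_mc ok_cs k2),
    E_mc ok_cs k2, E_mc ok_cj (ok_mc ok_cj k1), E_mc ok_cj k1, E_mc ok_cs (ok_mc ok_cs ok_cs), E_mc ok_cs ok_cs]

theorem ne_cu {y : ℕ × ℕ} (hy : y ∈ oB) : E y ≠ E cu := fun h9 => by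
  have h10 : ∀ y ∈ oB, ok y.2 = true ∧ y.1 < 2048 ∧ eqc (mc y (0, idP)) (mc cu (0, idP)) = false := by
    decide +kernel
  have h14 : ok cu.2 = true ∧ cu.1 < 2048 := by decide +kernel
  obtain ⟨h11, h12, h13⟩ := h10 y hy
  exact E_ne' (b := (0, idP)) (d := (0, idP)) h11 ok_idP h14.1 ok_idP h12 h14.2 h13 (by rw [h9])

theorem nc20 : ¬ IsConj ((f * j ^ 2) ^ 1) ((f * j ^ 2) ^ 17) := fun h => by
  obtain ⟨g, hg⟩ := isConj_iff.1 h
  have h3 : (g * (f * j ^ 2) ^ 1 * g⁻¹) ^ 16 = ((f * j ^ 2) ^ 17) ^ 16 := by rw [hg]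
  have h4 : (g * (f * j ^ 2) ^ 1 * g⁻¹) ^ 5 = ((f * j ^ 2) ^ 17) ^ 5 := by rw [hg]
  rw [conj_pow, ← pow_mul (f * j ^ 2), ← pow_mul (f * j ^ 2), pow_fj, pow_fj] at h3 h4
  simp only [Nat.reduceMul, Nat.reduceMod, pow_zero, pow_one, mul_one, one_mul] at h3 h4
  have h5 : r⁻¹ * g ∈ centralizer (Loc5.F5 : Set Spor.J4) := by
    rw [Loc5.F5, zpowers_eq_closure, centralizer_closure, mem_centralizer_singleton_iff]
    calc r⁻¹ * g * f = r⁻¹ * (g * f * g⁻¹ * r) * r⁻¹ * g := by group
      _ = f * (r⁻¹ * g) := by rw [h3, pow_two, ← r_mul_f]; group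
  obtain ⟨a, ha, k, hk, h6⟩ := CountDirect.exists_mul Loc5.directProduct h5
  obtain ⟨y, hy, h7⟩ := orb_J cl_oB (a := Tab.pw cj 2) (by decide +kernel) hk
  rw [E_pw ok_cj, ← j_E] at h7
  have h11 : E y ∈ Loc5.J := by
    rw [h7]
    exact mul_mem (mul_mem hk (pow_mem Loc5.j_mem 2)) (inv_mem hk)
  have h8 : a * E y = E y * a := mem_centralizer_iff.1 (Loc5.J_le_C h11) a ha
  refine ne_cu hy ?_
  have h9 := conj_r
  generalize E cu = u at h9
  generalize E y = w at h7 h8
  calc w = a * w * a⁻¹ := by rw [h8, mul_inv_cancel_right]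
    _ = (a * k) * j ^ 2 * (a * k)⁻¹ := by rw [h7]; group
    _ = r⁻¹ * (g * j ^ 2 * g⁻¹ * r) := by rw [← h6]; group
    _ = u := by rw [h4, h9, inv_mul_cancel_left]

theorem nc40 : ¬ IsConj ((f * j ^ 1) ^ 1) ((f * j ^ 1) ^ 17) := fun h => by
  have h1 := isConj_pow h 26
  rw [← pow_mul (f * j ^ 1), ← pow_mul (f * j ^ 1), pow_fj, pow_fj] at h1
  apply nc20
  rw [pow_fj, pow_fj]
  exact h1

end Cfsg.Agent.TAB.J4
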