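import Cfsg.Agent.TAB.J4.HT
import Cfsg.Agent.H860.Sixty
import Cfsg.Agent.H865.RhoEleven
import Cfsg.Agent.H337.JankoOfIso

/-!
# Representatives of the 62 classes of `J4` and their centralizers (helper55, TAB)
-/

set_option autoImplicit false
set_option maxHeartbeats 400000

namespace Cfsg.Agent.TAB.J4

open Cfsg Subgroup
open Cfsg.Agent.H860 Cfsg.Agent.H860.PairGroup
open Cfsg.Agent.SporadicStructure.M24El
open Cfsg.Agent.H858 Cfsg.Agent.H858.Elem
open Cfsg.Agent.H859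

/-- the orders -/
def oL : List ℕ := [1, 2, 2, 3, 4, 4, 4, 5, 6, 6, 6, 7, 8, 8, 8, 10, 10, 11, 11, 12, 12, 12, 14, 14, 15, 16, 20, 21, 22, 22, 23, 24, 28,
  29, 30, 31, 33, 35, 37, 40, 42, 43, 44, 66]
/-- the orders -/
def tO (t : ℕ) : ℕ := oL.getD t 0
/-- the centralizers -/
def tC (t : ℕ) : ℕ := [86775571046077562880, 21799895040, 1816657920, 2661120, 5406720, 98304, 43008, 6720, 2661120, 2304, 2304, 840, 1280,
  768, 512, 960, 80, 31944, 242, 192, 192, 48, 84, 56, 30, 32, 160, 42, 264, 22, 23, 48, 28, 29, 30, 31, 66, 35, 37, 40,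
  42, 43, 44, 66].getD t 0
/-- the odd parts of the orders -/
def tE (t : ℕ) : ℕ := [1, 1, 1, 3, 1, 1, 1, 5, 3, 3, 3, 7, 1, 1, 1, 5, 5, 11, 11, 3, 3, 3, 7, 7, 15, 1, 5, 21, 11, 11, 23, 3, 7, 29, 15, 31,
  33, 35, 37, 5, 21, 43, 11, 33].getD t 0
/-- the classes of the 2-parts -/
def tJ (t : ℕ) : ℕ := [0, 1, 2, 0, 3, 4, 5, 0, 1, 1, 2, 0, 7, 8, 6, 1, 2, 0, 0, 3, 4, 5, 1, 2, 0, 9, 3, 0, 1, 2, 0, 8, 5, 0, 1, 0, 0, 0, 0, 7,
  1, 0, 3, 1].getD t 0
/-- the exponents of the classes of a type -/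
def tK (t : ℕ) : List ℕ := [[1], [1], [1], [1], [1], [1], [1], [1], [1], [1], [1], [1, 6], [1], [1], [1], [1], [1], [1], [1], [1], [1], [1], [1,
  13], [1, 13], [1], [1], [1, 17], [1, 13], [1], [1], [1], [1, 7], [1, 13], [1], [1], [1, 3, 9], [1, 10], [1, 6], [1, 2,
  4], [1, 17], [1, 13], [1, 3, 9], [1], [1, 43]].getD t []

/-- order 29 -/
noncomputable def x29 : Spor.J4 := (exists_ord (p := 29) (by norm_num) (by norm_num)).choose
/-- order 31 -/
noncomputable def x31 : Spor.J4 := (exists_ord (p := 31) (by norm_num) (by norm_num)).choose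
/-- order 37 -/
noncomputable def x37 : Spor.J4 := (exists_ord (p := 37) (by norm_num) (by norm_num)).choose
/-- order 43 -/
noncomputable def x43 : Spor.J4 := (exists_ord (p := 43) (by norm_num) (by norm_num)).choose

theorem ord29 : orderOf x29 = 29 := (exists_ord (p := 29) (by norm_num) (by norm_num)).choose_spec
theorem ord31 : orderOf x31 = 31 := (exists_ord (p := 31) (by norm_num) (by norm_num)).choose_spec
theorem ord37 : orderOf x37 = 37 := (exists_ord (p := 37) (by norm_num) (by norm_num)).choose_spec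
theorem ord43 : orderOf x43 = 43 := (exists_ord (p := 43) (by norm_num) (by norm_num)).choose_spec

/-- the representatives -/
noncomputable def R (t : ℕ) : Spor.J4 := [1, zz, E (5, mP 0), rr, E (5, mP 1), E (2, mP 1), E (1, mP 1), f, rr * zz, E (1, mP 3), E (3, mP 3), s, E (64, mP 6), E
  (1, mP 5), E (2, mP 6), f * j ^ 4, E (1, mP 8), NU.c, E (0, mP 15), E (11, mP 9), E (2, mP 9), E (1, mP 9), s * hp p2,
  E (1, mP 11), E (0, mP 20), E (1, mP 13), f * j ^ 2, s * hp p3, NU.c * hs sZ, E (707, mP 15), E (0, mP 24), rr * u8, E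
  (4, mP 18), x29, E (561, mP 20), x31, NU.c * hs sT, f * s, x37, f * j ^ 1, s * hp (p2 * p3), x43, NU.c * hs sI, NU.c *
  hs (sT * sZ)].getD t 1

/-- the properties of a representative -/
structure Rp (t : ℕ) (x : Spor.J4) : Prop where
  ord : orderOf x = tO t
  two : t ≠ 31 → IsConj (Q (tJ t)) (x ^ tE t)
  low : tC t ≤ cc x
  nc : (tK t).Pairwise fun a b => ¬ IsConj (x ^ a) (x ^ b)

theorem low_ord {x : Spor.J4} {n : ℕ} (h : orderOf x = n) : n ≤ cc x :=
  Nat.le_of_dvd (cc_pos x) (h ▸ dvd_cc (Commute.refl x))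

theorem two_odd {x : Spor.J4} {n : ℕ} (h : orderOf x = n) : IsConj (Q 0) (x ^ n) := by
  rw [Q_zero, ← h, pow_orderOf_eq_one]

theorem ot_H {t i v : ℕ} (h : i < 26 ∧ v < 2048 ∧ mE i = tE t ∧ c2 i v = tJ t ∧ tE t * oQ (tJ t) = tO t) :
    orderOf (E (v, mP i)) = tO t ∧ IsConj (Q (tJ t)) (E (v, mP i) ^ tE t) := by
  obtain ⟨h1, h2, h3, h4, h5⟩ := h
  exact ⟨by rw [ord_H h1 h2, h3, h4, h5], h3 ▸ h4 ▸ two_H h1 h2⟩

theorem low_1 {t i v : ℕ} (h : i < 26 ∧ v < 2048 ∧ t < 44 ∧ tyf i v = t ∧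
    tC t * Eng.look (mK i) t ≤ 1 * (2048 * mN i)) : tC t ≤ cc (E (v, mP i)) :=
  low_T h.1 h.2.1 h.2.2.1 h.2.2.2.1 (one_dvd _) (Nat.coprime_one_left _) h.2.2.2.2

theorem rp0 : Rp 0 (1) := ⟨orderOf_one, fun _ => two_odd orderOf_one, by
  rw [cc, (centralizer_eq_top_iff_subset).2 (by simp), card_top, card_J4]; rfl, List.pairwise_singleton _ _⟩

theorem rp1 : Rp 1 (zz) := ⟨ord_z, fun _ => (pow_one zz).symm ▸ two_z, cc_z.ge, List.pairwise_singleton _ _⟩

theorem ot2 : orderOf (E (5, mP 0)) = tO 2 ∧ IsConj (Q (tJ 2)) (E (5, mP 0) ^ tE 2) := ot_H (by decide +kernel)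

theorem rp2 : Rp 2 (E (5, mP 0)) := ⟨ot2.1, fun _ => ot2.2,
  low_1 (by decide +kernel),
  List.pairwise_singleton _ _⟩

theorem rp3 : Rp 3 (rr) := ⟨ord_r, fun _ => two_odd ord_r, low_r, List.pairwise_singleton _ _⟩

theorem ot4 : orderOf (E (5, mP 1)) = tO 4 ∧ IsConj (Q (tJ 4)) (E (5, mP 1) ^ tE 4) := ot_H (by decide +kernel)

theorem rp4 : Rp 4 (E (5, mP 1)) := ⟨ot4.1, fun _ => ot4.2,
  low_T (t := 4) (q := 55) (by norm_num) (by norm_num) (by norm_num) (by decide +kernel) (by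
    rw [← pow_one (E (5, mP 1))]
    exact cc_conj ot4.2 ▸ (by norm_num : Nat.Coprime 5 11).mul_dvd_of_dvd_of_dvd dvd5.1 dvd11) (by decide +kernel) (by decide +kernel),
  List.pairwise_singleton _ _⟩

theorem ot5 : orderOf (E (2, mP 1)) = tO 5 ∧ IsConj (Q (tJ 5)) (E (2, mP 1) ^ tE 5) := ot_H (by decide +kernel)

theorem rp5 : Rp 5 (E (2, mP 1)) := ⟨ot5.1, fun _ => ot5.2,
  low_1 (by decide +kernel),
  List.pairwise_singleton _ _⟩

theorem ot6 : orderOf (E (1, mP 1)) = tO 6 ∧ IsConj (Q (tJ 6)) (E (1, mP 1) ^ tE 6) := ot_H (by decide +kernel)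

theorem rp6 : Rp 6 (E (1, mP 1)) := ⟨ot6.1, fun _ => ot6.2,
  low_1 (by decide +kernel),
  List.pairwise_singleton _ _⟩

theorem rp7 : Rp 7 (f) := ⟨ord_f, fun _ => two_odd ord_f, cc_f.ge, List.pairwise_singleton _ _⟩

theorem rp8 : Rp 8 (rr * zz) := ⟨ord_rz, fun _ => pow_rz3.symm ▸ two_z, low_rz, List.pairwise_singleton _ _⟩

theorem ot9 : orderOf (E (1, mP 3)) = tO 9 ∧ IsConj (Q (tJ 9)) (E (1, mP 3) ^ tE 9) := ot_H (by decide +kernel)

theorem rp9 : Rp 9 (E (1, mP 3)) := ⟨ot9.1, fun _ => ot9.2,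
  low_1 (by decide +kernel),
  List.pairwise_singleton _ _⟩

theorem ot10 : orderOf (E (3, mP 3)) = tO 10 ∧ IsConj (Q (tJ 10)) (E (3, mP 3) ^ tE 10) := ot_H (by decide +kernel)

theorem rp10 : Rp 10 (E (3, mP 3)) := ⟨ot10.1, fun _ => ot10.2,
  low_1 (by decide +kernel),
  List.pairwise_singleton _ _⟩

theorem rp11 : Rp 11 (s) := ⟨Loc5.orderOf_s, fun _ => two_odd Loc5.orderOf_s, cc_s.ge,
  List.pairwise_pair.2 (nc7 1 Loc5.orderOf_s (by decide))⟩

theorem ot12 : orderOf (E (64, mP 6)) = tO 12 ∧ IsConj (Q (tJ 12)) (E (64, mP 6) ^ tE 12) := ot_H (by decide +kernel)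

theorem rp12 : Rp 12 (E (64, mP 6)) := ⟨ot12.1, fun _ => ot12.2,
  low_T (t := 12) (q := 5) (by norm_num) (by norm_num) (by norm_num) (by decide +kernel) (by
    rw [← pow_one (E (64, mP 6))]
    exact cc_conj ot12.2 ▸ dvd5.2) (by decide +kernel) (by decide +kernel),
  List.pairwise_singleton _ _⟩

theorem ot13 : orderOf (E (1, mP 5)) = tO 13 ∧ IsConj (Q (tJ 13)) (E (1, mP 5) ^ tE 13) := ot_H (by decide +kernel)

theorem rp13 : Rp 13 (E (1, mP 5)) := ⟨ot13.1, fun _ => ot13.2,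
  low_1 (by decide +kernel),
  List.pairwise_singleton _ _⟩

theorem ot14 : orderOf (E (2, mP 6)) = tO 14 ∧ IsConj (Q (tJ 14)) (E (2, mP 6) ^ tE 14) := ot_H (by decide +kernel)

theorem rp14 : Rp 14 (E (2, mP 6)) := ⟨ot14.1, fun _ => ot14.2,
  low_1 (by decide +kernel),
  List.pairwise_singleton _ _⟩

theorem rp15 : Rp 15 (f * j ^ 4) := ⟨ord_fj 4, fun _ => two10, low10, List.pairwise_singleton _ _⟩

theorem ot16 : orderOf (E (1, mP 8)) = tO 16 ∧ IsConj (Q (tJ 16)) (E (1, mP 8) ^ tE 16) := ot_H (by decide +kernel)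

theorem rp16 : Rp 16 (E (1, mP 8)) := ⟨ot16.1, fun _ => ot16.2,
  low_1 (by decide +kernel),
  List.pairwise_singleton _ _⟩

theorem rp17 : Rp 17 (NU.c) := ⟨ord_c, fun _ => two_odd ord_c, cc_c.ge, List.pairwise_singleton _ _⟩

theorem ot18 : orderOf (E (0, mP 15)) = tO 18 ∧ IsConj (Q (tJ 18)) (E (0, mP 15) ^ tE 18) := ot_H (by decide +kernel)

theorem rp18 : Rp 18 (E (0, mP 15)) := ⟨ot18.1, fun _ => ot18.2,
  cc_11.ge,
  List.pairwise_singleton _ _⟩

theorem ot19 : orderOf (E (11, mP 9)) = tO 19 ∧ IsConj (Q (tJ 19)) (E (11, mP 9) ^ tE 19) := ot_H (by decide +kernel)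

theorem rp19 : Rp 19 (E (11, mP 9)) := ⟨ot19.1, fun _ => ot19.2,
  low_1 (by decide +kernel),
  List.pairwise_singleton _ _⟩

theorem ot20 : orderOf (E (2, mP 9)) = tO 20 ∧ IsConj (Q (tJ 20)) (E (2, mP 9) ^ tE 20) := ot_H (by decide +kernel)

theorem rp20 : Rp 20 (E (2, mP 9)) := ⟨ot20.1, fun _ => ot20.2,
  low_1 (by decide +kernel),
  List.pairwise_singleton _ _⟩

theorem ot21 : orderOf (E (1, mP 9)) = tO 21 ∧ IsConj (Q (tJ 21)) (E (1, mP 9) ^ tE 21) := ot_H (by decide +kernel)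

theorem rp21 : Rp 21 (E (1, mP 9)) := ⟨ot21.1, fun _ => ot21.2,
  low_1 (by decide +kernel),
  List.pairwise_singleton _ _⟩

theorem rp22 : Rp 22 (s * hp p2) := ⟨ord14, fun _ => two14, low14, List.pairwise_pair.2 (nc7 2 ord14 (by decide))⟩

theorem ot23 : orderOf (E (1, mP 11)) = tO 23 ∧ IsConj (Q (tJ 23)) (E (1, mP 11) ^ tE 23) := ot_H (by decide +kernel)

theorem rp23 : Rp 23 (E (1, mP 11)) := ⟨ot23.1, fun _ => ot23.2,
  low_1 (by decide +kernel),
  List.pairwise_pair.2 (nc7 2 ot23.1 (by decide))⟩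

theorem ot24 : orderOf (E (0, mP 20)) = tO 24 ∧ IsConj (Q (tJ 24)) (E (0, mP 20) ^ tE 24) := ot_H (by decide +kernel)

theorem rp24 : Rp 24 (E (0, mP 20)) := ⟨ot24.1, fun _ => ot24.2,
  Nat.le_of_dvd (cc_pos _) (by
    have h := dvd_cc (com_of (a := (0, mP 20)) (b := (561, mP 20)) (by decide +kernel)).symm
    rwa [(ot_H (t := 34) (i := 20) (v := 561) (by decide +kernel)).1] at h),
  List.pairwise_singleton _ _⟩

theorem ot25 : orderOf (E (1, mP 13)) = tO 25 ∧ IsConj (Q (tJ 25)) (E (1, mP 13) ^ tE 25) := ot_H (by decide +kernel)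

theorem rp25 : Rp 25 (E (1, mP 13)) := ⟨ot25.1, fun _ => ot25.2,
  low_1 (by decide +kernel),
  List.pairwise_singleton _ _⟩

theorem rp26 : Rp 26 (f * j ^ 2) := ⟨ord_fj 2, fun _ => two20, low20, List.pairwise_pair.2 (nc20)⟩

theorem rp27 : Rp 27 (s * hp p3) := ⟨ord21, fun _ => two_odd ord21, low21, List.pairwise_pair.2 (nc7 3 ord21 (by decide))⟩

theorem rp28 : Rp 28 (NU.c * hs sZ) := ⟨ord22, fun _ => two22, low22, List.pairwise_singleton _ _⟩

theorem ot29 : orderOf (E (707, mP 15)) = tO 29 ∧ IsConj (Q (tJ 29)) (E (707, mP 15) ^ tE 29) := ot_H (by decide +kernel)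

theorem rp29 : Rp 29 (E (707, mP 15)) := ⟨ot29.1, fun _ => ot29.2,
  low_ord ot29.1,
  List.pairwise_singleton _ _⟩

theorem ot30 : orderOf (E (0, mP 24)) = tO 30 ∧ IsConj (Q (tJ 30)) (E (0, mP 24) ^ tE 30) := ot_H (by decide +kernel)

theorem rp30 : Rp 30 (E (0, mP 24)) := ⟨ot30.1, fun _ => ot30.2,
  low_ord ot30.1,
  List.pairwise_singleton _ _⟩

theorem rp31 : Rp 31 (rr * u8) := ⟨ord24, fun h => absurd rfl h, low24, List.pairwise_pair.2 (nc24)⟩

theorem ot32 : orderOf (E (4, mP 18)) = tO 32 ∧ IsConj (Q (tJ 32)) (E (4, mP 18) ^ tE 32) := ot_H (by decide +kernel)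

theorem rp32 : Rp 32 (E (4, mP 18)) := ⟨ot32.1, fun _ => ot32.2,
  low_ord ot32.1,
  List.pairwise_pair.2 (nc7 4 ot32.1 (by decide))⟩

theorem rp33 : Rp 33 (x29) := ⟨ord29, fun _ => two_odd ord29, low_ord ord29, List.pairwise_singleton _ _⟩

theorem ot34 : orderOf (E (561, mP 20)) = tO 34 ∧ IsConj (Q (tJ 34)) (E (561, mP 20) ^ tE 34) := ot_H (by decide +kernel)

theorem rp34 : Rp 34 (E (561, mP 20)) := ⟨ot34.1, fun _ => ot34.2,
  low_ord ot34.1,
  List.pairwise_singleton _ _⟩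

theorem rp35 : Rp 35 (x31) := ⟨ord31, fun _ => two_odd ord31, low_ord ord31,
  ncp (c := 3) ord31 BigNum.data31 (by norm_num) (by decide) (by decide)⟩

theorem rp36 : Rp 36 (NU.c * hs sT) := ⟨ord33, fun _ => two_odd ord33, low33, List.pairwise_pair.2 (nc33)⟩

theorem rp37 : Rp 37 (f * s) := ⟨ord35, fun _ => two_odd ord35, low_ord ord35, List.pairwise_pair.2 (nc7 5 ord35 (by decide))⟩

theorem rp38 : Rp 38 (x37) := ⟨ord37, fun _ => two_odd ord37, low_ord ord37,
  ncp (c := 2) ord37 BigNum.data37 (by norm_num) (by decide) (by decide)⟩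

theorem rp39 : Rp 39 (f * j ^ 1) := ⟨ord_fj 1, fun _ => two40, low_ord (ord_fj 1), List.pairwise_pair.2 (nc40)⟩

theorem rp40 : Rp 40 (s * hp (p2 * p3)) := ⟨ord42, fun _ => two42, low_ord ord42, List.pairwise_pair.2 (nc7 6 ord42 (by decide))⟩

theorem rp41 : Rp 41 (x43) := ⟨ord43, fun _ => two_odd ord43, low_ord ord43,
  ncp (c := 3) ord43 BigNum.data43 (by norm_num) (by decide) (by decide)⟩

theorem rp42 : Rp 42 (NU.c * hs sI) := ⟨ord44, fun _ => two44, low_ord ord44, List.pairwise_singleton _ _⟩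

theorem rp43 : Rp 43 (NU.c * hs (sT * sZ)) := ⟨ord66, fun _ => two66, low_ord ord66, List.pairwise_pair.2 (nc66)⟩

theorem R_0 : R 0 = 1 := by
  simp only [R, List.getD_cons_zero]
theorem R_1 : R 1 = zz := by
  simp only [R, List.getD_cons_succ, List.getD_cons_zero]
theorem R_2 : R 2 = E (5, mP 0) := by
  simp only [R, List.getD_cons_succ, List.getD_cons_zero]
theorem R_3 : R 3 = rr := by
  simp only [R, List.getD_cons_succ, List.getD_cons_zero]
theorem R_4 : R 4 = E (5, mP 1) := by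
  simp only [R, List.getD_cons_succ, List.getD_cons_zero]
theorem R_5 : R 5 = E (2, mP 1) := by
  simp only [R, List.getD_cons_succ, List.getD_cons_zero]
theorem R_6 : R 6 = E (1, mP 1) := by
  simp only [R, List.getD_cons_succ, List.getD_cons_zero]
theorem R_7 : R 7 = f := by
  simp only [R, List.getD_cons_succ, List.getD_cons_zero]
theorem R_8 : R 8 = rr * zz := by
  simp only [R, List.getD_cons_succ, List.getD_cons_zero]
theorem R_9 : R 9 = E (1, mP 3) := by
  simp only [R, List.getD_cons_succ, List.getD_cons_zero]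
theorem R_10 : R 10 = E (3, mP 3) := by
  simp only [R, List.getD_cons_succ, List.getD_cons_zero]
theorem R_11 : R 11 = s := by
  simp only [R, List.getD_cons_succ, List.getD_cons_zero]
theorem R_12 : R 12 = E (64, mP 6) := by
  simp only [R, List.getD_cons_succ, List.getD_cons_zero]
theorem R_13 : R 13 = E (1, mP 5) := by
  simp only [R, List.getD_cons_succ, List.getD_cons_zero]
theorem R_14 : R 14 = E (2, mP 6) := by
  simp only [R, List.getD_cons_succ, List.getD_cons_zero]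
theorem R_15 : R 15 = f * j ^ 4 := by
  simp only [R, List.getD_cons_succ, List.getD_cons_zero]
theorem R_16 : R 16 = E (1, mP 8) := by
  simp only [R, List.getD_cons_succ, List.getD_cons_zero]
theorem R_17 : R 17 = NU.c := by
  simp only [R, List.getD_cons_succ, List.getD_cons_zero]
theorem R_18 : R 18 = E (0, mP 15) := by
  simp only [R, List.getD_cons_succ, List.getD_cons_zero]
theorem R_19 : R 19 = E (11, mP 9) := by
  simp only [R, List.getD_cons_succ, List.getD_cons_zero]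
theorem R_20 : R 20 = E (2, mP 9) := by
  simp only [R, List.getD_cons_succ, List.getD_cons_zero]
theorem R_21 : R 21 = E (1, mP 9) := by
  simp only [R, List.getD_cons_succ, List.getD_cons_zero]
theorem R_22 : R 22 = s * hp p2 := by
  simp only [R, List.getD_cons_succ, List.getD_cons_zero]
theorem R_23 : R 23 = E (1, mP 11) := by
  simp only [R, List.getD_cons_succ, List.getD_cons_zero]
theorem R_24 : R 24 = E (0, mP 20) := by
  simp only [R, List.getD_cons_succ, List.getD_cons_zero]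
theorem R_25 : R 25 = E (1, mP 13) := by
  simp only [R, List.getD_cons_succ, List.getD_cons_zero]
theorem R_26 : R 26 = f * j ^ 2 := by
  simp only [R, List.getD_cons_succ, List.getD_cons_zero]
theorem R_27 : R 27 = s * hp p3 := by
  simp only [R, List.getD_cons_succ, List.getD_cons_zero]
theorem R_28 : R 28 = NU.c * hs sZ := by
  simp only [R, List.getD_cons_succ, List.getD_cons_zero]
theorem R_29 : R 29 = E (707, mP 15) := by
  simp only [R, List.getD_cons_succ, List.getD_cons_zero]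
theorem R_30 : R 30 = E (0, mP 24) := by
  simp only [R, List.getD_cons_succ, List.getD_cons_zero]
theorem R_31 : R 31 = rr * u8 := by
  simp only [R, List.getD_cons_succ, List.getD_cons_zero]
theorem R_32 : R 32 = E (4, mP 18) := by
  simp only [R, List.getD_cons_succ, List.getD_cons_zero]
theorem R_33 : R 33 = x29 := by
  simp only [R, List.getD_cons_succ, List.getD_cons_zero]
theorem R_34 : R 34 = E (561, mP 20) := by
  simp only [R, List.getD_cons_succ, List.getD_cons_zero]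
theorem R_35 : R 35 = x31 := by
  simp only [R, List.getD_cons_succ, List.getD_cons_zero]
theorem R_36 : R 36 = NU.c * hs sT := by
  simp only [R, List.getD_cons_succ, List.getD_cons_zero]
theorem R_37 : R 37 = f * s := by
  simp only [R, List.getD_cons_succ, List.getD_cons_zero]
theorem R_38 : R 38 = x37 := by
  simp only [R, List.getD_cons_succ, List.getD_cons_zero]
theorem R_39 : R 39 = f * j ^ 1 := by
  simp only [R, List.getD_cons_succ, List.getD_cons_zero]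
theorem R_40 : R 40 = s * hp (p2 * p3) := by
  simp only [R, List.getD_cons_succ, List.getD_cons_zero]
theorem R_41 : R 41 = x43 := by
  simp only [R, List.getD_cons_succ, List.getD_cons_zero]
theorem R_42 : R 42 = NU.c * hs sI := by
  simp only [R, List.getD_cons_succ, List.getD_cons_zero]
theorem R_43 : R 43 = NU.c * hs (sT * sZ) := by
  simp only [R, List.getD_cons_succ, List.getD_cons_zero]

theorem rp {t : ℕ} (ht : t < 44) : Rp t (R t) := by
  interval_cases t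
  · rw [R_0]; exact rp0
  · rw [R_1]; exact rp1
  · rw [R_2]; exact rp2
  · rw [R_3]; exact rp3
  · rw [R_4]; exact rp4
  · rw [R_5]; exact rp5
  · rw [R_6]; exact rp6
  · rw [R_7]; exact rp7
  · rw [R_8]; exact rp8
  · rw [R_9]; exact rp9
  · rw [R_10]; exact rp10
  · rw [R_11]; exact rp11
  · rw [R_12]; exact rp12
  · rw [R_13]; exact rp13
  · rw [R_14]; exact rp14
  · rw [R_15]; exact rp15
  · rw [R_16]; exact rp16
  · rw [R_17]; exact rp17
  · rw [R_18]; exact rp18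
  · rw [R_19]; exact rp19
  · rw [R_20]; exact rp20
  · rw [R_21]; exact rp21
  · rw [R_22]; exact rp22
  · rw [R_23]; exact rp23
  · rw [R_24]; exact rp24
  · rw [R_25]; exact rp25
  · rw [R_26]; exact rp26
  · rw [R_27]; exact rp27
  · rw [R_28]; exact rp28
  · rw [R_29]; exact rp29
  · rw [R_30]; exact rp30
  · rw [R_31]; exact rp31
  · rw [R_32]; exact rp32
  · rw [R_33]; exact rp33
  · rw [R_34]; exact rp34
  · rw [R_35]; exact rp35
  · rw [R_36]; exact rp36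
  · rw [R_37]; exact rp37
  · rw [R_38]; exact rp38
  · rw [R_39]; exact rp39
  · rw [R_40]; exact rp40
  · rw [R_41]; exact rp41
  · rw [R_42]; exact rp42
  · rw [R_43]; exact rp43

theorem na6_9 : ¬ A6 (R 9) := R_9 ▸ na6_H (i := 3) (v := 1) (by norm_num) (by norm_num) rfl (by decide +kernel) (by decide +kernel)

theorem na6_19 : ¬ A6 (R 19 ^ 2) := by
  rw [R_19, ← E_pw (a := (11, mP 9)) (ok_mP 9)]
  exact na6_of (e := (29, 966523118169800379397712788959857696)) (by decide +kernel) (by decide +kernel) (by decide +kernel)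

theorem na6_20 : ¬ A6 (R 20 ^ 2) := by
  rw [R_20, ← E_pw (a := (2, mP 9)) (ok_mP 9)]
  exact na6_of (e := (0, 958451029172002204203126923072919584)) (by decide +kernel) (by decide +kernel) (by decide +kernel)

theorem cc_29 : cc (R 29 ^ 2) = 242 := by
  have h : orderOf (R 29 ^ 2) = 11 := by rw [orderOf_pow, (rp (t := 29) (by norm_num)).ord]; rfl
  rw [← cc_pow (k := 6) (by rw [h]; norm_num), ← pow_mul, R_29,
    ← E_pw (a := (707, mP 15)) (ok_mP 15), eqc_eq (a := Tab.pw (707, mP 15) (2 * 6)) (b := (0, mP 15)) (by decide +kernel), cc_11]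

/-- the classes -/
def cL : List (ℕ × ℕ) := [(0, 1), (1, 1), (2, 1), (3, 1), (4, 1), (5, 1), (6, 1), (7, 1), (8, 1), (9, 1), (10, 1), (11, 1), (11, 6), (12, 1),
  (13, 1), (14, 1), (15, 1), (16, 1), (17, 1), (18, 1), (19, 1), (20, 1), (21, 1), (22, 1), (22, 13), (23, 1), (23, 13),
  (24, 1), (25, 1), (26, 1), (26, 17), (27, 1), (27, 13), (28, 1), (29, 1), (30, 1), (31, 1), (31, 7), (32, 1), (32,
  13), (33, 1), (34, 1), (35, 1), (35, 3), (35, 9), (36, 1), (36, 10), (37, 1), (37, 6), (38, 1), (38, 2), (38, 4), (39,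
  1), (39, 17), (40, 1), (40, 13), (41, 1), (41, 3), (41, 9), (42, 1), (43, 1), (43, 43)]

theorem cL_ok : ∀ p ∈ cL, p.1 < 44 ∧ p.2 ∈ tK p.1 ∧ Nat.Coprime p.2 (tO p.1) ∧ tJ p.1 < 10 ∧
    (p.1 = 31 ∨ p.2 * tE p.1 ≡ tE p.1 [MOD tO p.1]) := by decide +kernel

theorem ord_L {p : ℕ × ℕ} (hp : p ∈ cL) : orderOf (R p.1 ^ p.2) = tO p.1 := by
  obtain ⟨h1, -, h2, -⟩ := cL_ok p hp
  rw [← (rp h1).ord] at h2 ⊢
  exact h2.symm.orderOf_pow

theorem cc_L {p : ℕ × ℕ} (hp : p ∈ cL) : cc (R p.1 ^ p.2) = cc (R p.1) := by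
  obtain ⟨h1, -, h2, -⟩ := cL_ok p hp
  exact cc_pow ((rp h1).ord ▸ h2)

theorem two_L {p : ℕ × ℕ} (hp : p ∈ cL) (h : p.1 ≠ 31) : IsConj (Q (tJ p.1)) ((R p.1 ^ p.2) ^ tE p.1) := by
  obtain ⟨h1, -, -, -, h2⟩ := cL_ok p hp
  rw [← pow_mul, pow_eq_pow_iff_modEq.2 ((rp h1).ord ▸ h2.resolve_left h)]
  exact (rp h1).two h

theorem pw_ne {x : Spor.J4} {l : List ℕ} (h : l.Pairwise fun a b => ¬ IsConj (x ^ a) (x ^ b)) {a b : ℕ} (ha : a ∈ l)
    (hb : b ∈ l) (hab : a ≠ b) : ¬ IsConj (x ^ a) (x ^ b) := by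
  induction h with
  | nil => simp at ha
  | cons h1 _ ih =>
    rcases List.mem_cons.1 ha with rfl | ha' <;> rcases List.mem_cons.1 hb with rfl | hb'
    · exact absurd rfl hab
    · exact h1 _ hb'
    · exact fun h => h1 _ ha' h.symm
    · exact ih ha' hb'

theorem card_classes : Nat.card (ConjClasses Spor.J4) = 62 := by
  have hsim : IsSimpleGroup Spor.J4 := H858.VK.isJ4.1
  exact H860.Sixty.card_classes (H337.isOfJankoFourType_of_isoJ4 (G := Spor.J4) ⟨MulEquiv.refl _⟩)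
    H865.RhoEleven.nc_eleven

theorem inj_L : ∀ p ∈ cL, ∀ q ∈ cL, IsConj (R p.1 ^ p.2) (R q.1 ^ q.2) → p = q := by
  have key : ∀ p ∈ cL, ∀ q ∈ cL, tO p.1 = tO q.1 → p.1 = q.1 ∨ (tJ p.1 ≠ tJ q.1 ∧ tE p.1 = tE q.1 ∧ p.1 ≠ 31 ∧
      q.1 ≠ 31) ∨ (p = (8, 1) ∧ q = (9, 1)) ∨ (p = (9, 1) ∧ q = (8, 1)) ∨ (p = (17, 1) ∧ q = (18, 1)) ∨
        (p = (18, 1) ∧ q = (17, 1)) := by decide +kernel
  have h89 : ¬ IsConj (R 8 ^ 1) (R 9 ^ 1) := fun h => by
    rw [pow_one, pow_one, R_8] at h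
    exact na6_9 (a6_rz.conj h)
  have h11 : ¬ IsConj (R 17 ^ 1) (R 18 ^ 1) := fun h => by
    rw [pow_one, pow_one, R_17, R_18] at h
    exact absurd (cc_c.symm.trans ((cc_conj h).trans cc_11)) (by norm_num)
  intro p hp q hq h
  rcases key p hp q hq ((ord_L hp).symm.trans ((ord_conj h).trans (ord_L hq))) with h1 | ⟨h1, h2, h3, h4⟩ |
    ⟨rfl, rfl⟩ | ⟨rfl, rfl⟩ | ⟨rfl, rfl⟩ | ⟨rfl, rfl⟩
  · refine Prod.ext h1 (by_contra fun h2 => ?_)
    rw [← h1] at h
    exact pw_ne (rp (cL_ok p hp).1).nc (cL_ok p hp).2.1 (h1 ▸ (cL_ok q hq).2.1) h2 h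
  · exact absurd (Q_inj (cL_ok p hp).2.2.2.1 (cL_ok q hq).2.2.2.1
      ((two_L hp h3).trans ((isConj_pow h _).trans (h2 ▸ (two_L hq h4).symm)))) h1
  · exact absurd h h89
  · exact absurd h.symm h89
  · exact absurd h h11
  · exact absurd h.symm h11

/-- **the classes of `J4`** -/
theorem classes : (∀ g, ∃ p ∈ cL, IsConj (R p.1 ^ p.2) g) ∧ ∀ p ∈ cL, cc (R p.1 ^ p.2) = tC p.1 :=
  exact_of_lower cL (by decide +kernel) (fun p => R p.1 ^ p.2) (fun p => tC p.1) card_J4 card_classes inj_L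
    (fun p hp => (cc_L hp).symm ▸ (rp (cL_ok p hp).1).low) (by decide +kernel) (by decide +kernel)

end Cfsg.Agent.TAB.J4
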